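import Cfsg.Agent.Omega.FOne.Rep
import Cfsg.Agent.Omega.ML.Final

/-!
# (F1') from (NO) only: the frame (ruling R-PS)

`PSin` (`FOne/Rep.lean`) is to be proved from (NO) = (ML) alone.

* `cm y B = {w : b w ∈ {w, w + y} for all b ∈ B}` : the preimage of `C_{W/y}(B)`;
* `Sw H y T N L` : the hypotheses of `PSin` on `(H, y, T, N, L)` and (NO) for the normal 2-subgroups of the
  stabiliser of `L`;
* `MEx y B` : `B` is `M`-exact;  `WEx y B` : `M`-exact and every `w ∈ cm y B` is fixed by `B`;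
* `MAtom y B` : `B` is a minimal nontrivial `M`-exact group;
* `IsTm y g` : `g` is a transvection of `W / y`;
* `PTv` : every `A` contains a transvection with swapped centre;
* `AtomTwo`, `TrSwap` : together they give `PTv` (helper299, 854, 201, 809, ..).
-/

set_option autoImplicit false
set_option linter.unusedSectionVars false

namespace Cfsg.Agent.Omega.FOne.NOv

open Subgroup Cfsg
open Cfsg.Agent.Omega.FOne.Tvw (Base Blk IsTv z2 addself)

universe u

section defs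

variable {W : Type*} [AddCommGroup W] [Module (ZMod 2) W]

/-- the preimage in `W` of the fixed points of `B` on `W / y` -/
def cm (y : W) (B : Subgroup (W ≃ₗ[ZMod 2] W)) : Set W := {w | ∀ b ∈ B, b w = w ∨ b w = w + y}

/-- `B` is `M`-exact: `|M| = |B| |C_M(B)|` for `M = W / y` -/
def MEx (y : W) (B : Subgroup (W ≃ₗ[ZMod 2] W)) : Prop := Nat.card B * Nat.card (cm y B) = Nat.card W

/-- `B` is `W`-exact: `M`-exact and `C_M(B) = C_W(B) / y` -/
structure WEx (y : W) (B : Subgroup (W ≃ₗ[ZMod 2] W)) : Prop where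
  ex : MEx y B
  fix : ∀ w ∈ cm y B, ∀ b ∈ B, b w = w

/-- a minimal `M`-exact group -/
structure MAtom (y : W) (B : Subgroup (W ≃ₗ[ZMod 2] W)) : Prop where
  ne : B ≠ ⊥
  ex : MEx y B
  min : ∀ B' ≤ B, B' ≠ ⊥ → MEx y B' → B' = B

/-- `g` is a transvection of `W / y` -/
def IsTm (y : W) (g : W ≃ₗ[ZMod 2] W) : Prop :=
  ∃ (θ : W) (f d : W →ₗ[ZMod 2] ZMod 2), θ ≠ 0 ∧ θ ≠ y ∧ f ≠ 0 ∧ ∀ w, g w = w + f w • θ + d w • y

/-- The hypotheses of `PSin` on `(H, y, T, N, L)`, and (NO). -/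
structure Sw (H : Subgroup (W ≃ₗ[ZMod 2] W)) (y : W) (T N : Subgroup (W ≃ₗ[ZMod 2] W))
    (L : Submodule (ZMod 2) W) : Prop where
  known : IsKGroupWith IsKnownSimple' H
  base : Base H y
  TH : T ≤ H
  two : IsPGroup 2 T
  syl : ¬ 2 ∣ T.relIndex H
  fixT : ∀ w, (∀ t ∈ T, t w = w) → w = 0 ∨ w = y
  card : Nat.card L = 4
  yL : y ∈ L
  TL : ∀ t ∈ T, ∀ v ∈ L, t v ∈ L
  swap : ∀ v ∈ L, v ≠ 0 → v ≠ y → ∃ t ∈ T, t v = v + y
  gen : ∀ U : Submodule (ZMod 2) W, (∀ h ∈ H, ∀ v ∈ L, h v ∈ U) → U = ⊤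
  NH : N ≤ H
  N2 : IsPGroup 2 N
  NL : ∀ n ∈ N, ∀ v ∈ L, n v = v
  Nn : ∀ h ∈ H, (∀ v ∈ L, h v ∈ L) → ∀ n ∈ N, h * n * h⁻¹ ∈ N
  /-- (NO) for every normal 2-subgroup `Q` of the stabiliser of `L` -/
  no : ∀ Q : Subgroup (W ≃ₗ[ZMod 2] W), Q ≤ H → IsPGroup 2 Q → (∀ q ∈ Q, ∀ v ∈ L, q v ∈ L) →
    (∀ h ∈ H, (∀ v ∈ L, h v ∈ L) → ∀ q ∈ Q, h * q * h⁻¹ ∈ Q) →
    ∀ B ≤ Q, (∀ b ∈ B, b * b = 1) → Nat.card B * Nat.card (cm y B) ≤ Nat.card W

/-- The data of `PSin` on `A`, together with the exactness given by (NO). -/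
structure Ax (y : W) (N A : Subgroup (W ≃ₗ[ZMod 2] W)) : Prop where
  AN : A ≤ N
  sq : ∀ a ∈ A, a * a = 1
  quad : ∀ a ∈ A, ∀ b ∈ A, ∀ w, b (a w + w) = a w + w
  wex : WEx y A

end defs

/-- **(AtomTwo)** : every minimal `M`-exact subgroup `B` of `A` has order 2 -/
def AtomTwo : Prop :=
  ∀ (W : Type u) [AddCommGroup W] [Module (ZMod 2) W] [Finite W] (H : Subgroup (W ≃ₗ[ZMod 2] W)) (y : W)
    (T N A B : Subgroup (W ≃ₗ[ZMod 2] W)) (L : Submodule (ZMod 2) W), Sw H y T N L → Ax y N A → B ≤ A →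
    MAtom y B → Nat.card B = 2

/-- **(PTv)** : every `A` as above, `A ≠ 1`, contains a transvection of `W / y` whose centre has swapped lifts -/
def PTv : Prop :=
  ∀ (W : Type u) [AddCommGroup W] [Module (ZMod 2) W] [Finite W] (H : Subgroup (W ≃ₗ[ZMod 2] W)) (y : W)
    (T N A : Subgroup (W ≃ₗ[ZMod 2] W)) (L : Submodule (ZMod 2) W), Sw H y T N L → Ax y N A → A ≠ ⊥ →
    ∃ g ∈ A, IsTv H y g

/-- **(TrSwap)** = THEOREM TR (helper809 #19638): the centre of a transvection of `W / y` in `N` has swapped lifts -/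
def TrSwap : Prop :=
  ∀ (W : Type u) [AddCommGroup W] [Module (ZMod 2) W] [Finite W] (H : Subgroup (W ≃ₗ[ZMod 2] W)) (y : W)
    (T N : Subgroup (W ≃ₗ[ZMod 2] W)) (L : Submodule (ZMod 2) W), Sw H y T N L → ∀ g ∈ N, IsTm y g → IsTv H y g

section basic

variable {W : Type*} [AddCommGroup W] [Module (ZMod 2) W] {y : W} {A B : Subgroup (W ≃ₗ[ZMod 2] W)}

theorem mem_cm {w : W} : w ∈ cm y B ↔ ∀ b ∈ B, b w = w ∨ b w = w + y := Iff.rfl

theorem cm_anti (h : B ≤ A) : cm y A ⊆ cm y B := fun _ hw b hb => hw b (h hb)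

theorem zero_mem_cm : (0 : W) ∈ cm y B := fun b _ => Or.inl (map_zero b)

theorem add_mem_cm {v w : W} (hv : v ∈ cm y B) (hw : w ∈ cm y B) : v + w ∈ cm y B := by
  intro b hb
  have e2 : y + y = 0 := addself y
  rcases hv b hb with h1 | h1 <;> rcases hw b hb with h2 | h2 <;> rw [map_add, h1, h2]
  · exact Or.inl rfl
  · right; abel
  · right; abel
  · left
    calc v + y + (w + y) = v + w + (y + y) := by abel
      _ = v + w := by rw [e2, add_zero]

/-- `cm` as a submodule -/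
def cms (y : W) (B : Subgroup (W ≃ₗ[ZMod 2] W)) : Submodule (ZMod 2) W where
  carrier := cm y B
  zero_mem' := zero_mem_cm
  add_mem' := add_mem_cm
  smul_mem' := by
    intro c w hw
    rcases z2 c with rfl | rfl
    · rw [zero_smul]; exact zero_mem_cm
    · rw [one_smul]; exact hw

theorem mem_cms {w : W} : w ∈ cms y B ↔ w ∈ cm y B := Iff.rfl

/-- the fixed points of `B` -/
def cw (B : Subgroup (W ≃ₗ[ZMod 2] W)) : Submodule (ZMod 2) W where
  carrier := {w | ∀ b ∈ B, b w = w}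
  zero_mem' := fun b _ => map_zero b
  add_mem' := fun {v w} hv hw b hb => by rw [map_add, hv b hb, hw b hb]
  smul_mem' := fun c w hw b hb => by rw [map_smul, hw b hb]

theorem mem_cw {w : W} : w ∈ cw B ↔ ∀ b ∈ B, b w = w := Iff.rfl

theorem cw_le_cms : cw B ≤ cms y B := fun _ hw b hb => Or.inl (hw b hb)

theorem WEx.eq (h : WEx y B) : cms y B = cw B :=
  le_antisymm (fun w hw => h.fix w hw) cw_le_cms

theorem WEx.card (h : WEx y B) : Nat.card B * Nat.card (cw B) = Nat.card W := by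
  rw [← h.eq]; exact h.ex

end basic

end Cfsg.Agent.Omega.FOne.NOv
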