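import Cfsg.Agent.Involutions.BaerSuzuki
import Cfsg.Agent.Omega.FOne.TvwBasic

/-!
# THEOREM TR (helper809 #19638, referee helper481 #20070): the abstract form

`ρ : Γ → End(M)` faithful, `M` a finite `𝔽₂`-space, `O₂(Γ) = 1`.

* `Is ρ g w f` : `g` acts as the transvection `v ↦ v + f(v) w`;
* `Dt.nb` : every transvection has a neighbour (`f(w') = 1 = f'(w)`) (Baer–Suzuki);
* `Dt.comp` : transvections in different components commute;
* `Dt.main` : `b = 1 + f.w` in a normal 2-subgroup of `C(λ)` ⟹ there is a functional `f'` with `f'(w) = 1` and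
  `f'(t w) = 0` for all `t ∈ C(λ)` with `t w ≠ w`.
-/

set_option autoImplicit false
set_option linter.unusedSectionVars false

namespace Cfsg.Agent.Omega.FOne.NOv.TrA

open Subgroup
open Cfsg.Agent.Omega.FOne.Tvw (z2 addself z2add)

variable {Γ M : Type*} [Group Γ] [AddCommGroup M] [Module (ZMod 2) M]

structure Dt (ρ : Γ →* Module.End (ZMod 2) M) : Prop where
  inj : Function.Injective ρ
  core : ∀ N : Subgroup Γ, N.Normal → IsPGroup 2 N → N = ⊥

/-- `g` acts as the transvection `v ↦ v + f(v) w` -/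
structure Is (ρ : Γ →* Module.End (ZMod 2) M) (g : Γ) (w : M) (f : M →ₗ[ZMod 2] ZMod 2) : Prop where
  w0 : w ≠ 0
  f0 : f ≠ 0
  e : ∀ v, ρ g v = v + f v • w

section

variable (ρ : Γ →* Module.End (ZMod 2) M)

theorem ap_mul (g h : Γ) (v : M) : ρ (g * h) v = ρ g (ρ h v) := by rw [map_mul]; rfl

theorem ap_one (v : M) : ρ 1 v = v := by rw [map_one]; rfl

theorem inv_ap (g : Γ) (v : M) : ρ g⁻¹ (ρ g v) = v := by rw [← ap_mul, inv_mul_cancel, ap_one]

theorem ap_inv (g : Γ) (v : M) : ρ g (ρ g⁻¹ v) = v := by rw [← ap_mul, mul_inv_cancel, ap_one]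

end

theorem exists_one {f : M →ₗ[ZMod 2] ZMod 2} (hf : f ≠ 0) : ∃ v, f v = 1 := by
  by_contra hcon
  push Not at hcon
  exact hf (LinearMap.ext fun v => (z2 (f v)).resolve_right (hcon v))

variable {ρ : Γ →* Module.End (ZMod 2) M}

theorem Dt.ext (D : Dt ρ) {g h : Γ} (e : ∀ v, ρ g v = ρ h v) : g = h := D.inj (LinearMap.ext e)

theorem Is.fw {g : Γ} {w : M} {f : M →ₗ[ZMod 2] ZMod 2} (h : Is ρ g w f) : f w = 0 := by
  rcases z2 (f w) with a | a
  · exact a
  exfalso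
  have e := h.e w
  rw [a, one_smul, addself] at e
  apply h.w0
  rw [← inv_ap ρ g w, e, map_zero]

theorem Is.gg (D : Dt ρ) {g : Γ} {w : M} {f : M →ₗ[ZMod 2] ZMod 2} (h : Is ρ g w f) : g * g = 1 := by
  apply D.ext
  intro v
  rw [ap_mul, ap_one, h.e, h.e, map_add, map_smul, h.fw, smul_zero, add_zero, add_assoc, ← add_smul, z2add,
    zero_smul, add_zero]

theorem Is.inv (D : Dt ρ) {g : Γ} {w : M} {f : M →ₗ[ZMod 2] ZMod 2} (h : Is ρ g w f) : g⁻¹ = g :=
  inv_eq_of_mul_eq_one_left (h.gg D)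

/-- the conjugate functional -/
abbrev cf (ρ : Γ →* Module.End (ZMod 2) M) (k : Γ) (f : M →ₗ[ZMod 2] ZMod 2) : M →ₗ[ZMod 2] ZMod 2 :=
  f.comp (ρ k⁻¹)

theorem cf_apply (k : Γ) (f : M →ₗ[ZMod 2] ZMod 2) (v : M) : cf ρ k f v = f (ρ k⁻¹ v) := rfl

theorem cf_ap (k : Γ) (f : M →ₗ[ZMod 2] ZMod 2) (v : M) : cf ρ k f (ρ k v) = f v := by
  rw [cf_apply, inv_ap]

theorem cf_inj (k : Γ) : Function.Injective (cf ρ k) := by
  intro f f' h
  ext v
  rw [← cf_ap (ρ := ρ) k f v, h, cf_ap]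

theorem cf_ne {k : Γ} {f : M →ₗ[ZMod 2] ZMod 2} (hf : f ≠ 0) : cf ρ k f ≠ 0 := by
  intro h
  apply hf
  apply cf_inj (ρ := ρ) k
  rw [h]; rfl

theorem ap_ne {k : Γ} {w : M} (hw : w ≠ 0) : ρ k w ≠ 0 := by
  intro h
  apply hw
  rw [← inv_ap ρ k w, h, map_zero]

theorem Is.conj {g : Γ} {w : M} {f : M →ₗ[ZMod 2] ZMod 2} (h : Is ρ g w f) (k : Γ) :
    Is ρ (k * g * k⁻¹) (ρ k w) (cf ρ k f) where
  w0 := ap_ne h.w0
  f0 := cf_ne h.f0
  e := by
    intro v
    rw [ap_mul, ap_mul, h.e, map_add, map_smul, ap_inv, cf_apply]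

/-- the commutator of two transvections -/
theorem comm_one {x y : Γ} {u w : M} {f k : M →ₗ[ZMod 2] ZMod 2} (hx : Is ρ x u f) (hy : Is ρ y w k)
    (h1 : f w = 1) (h0 : k u = 0) : Is ρ (x * y * (x * y)) u k where
  w0 := hx.w0
  f0 := hy.f0
  e := by
    intro v
    rw [ap_mul, ap_mul, ap_mul, hy.e v, hx.e, hy.e, hx.e]
    simp only [map_add, map_smul, h1, h0, hx.fw, hy.fw, add_zero, smul_eq_mul, mul_one, mul_zero]
    linear_combination (norm := module) f v • addself u + k v • addself w + k v • addself u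

theorem comm_zero (D : Dt ρ) {x y : Γ} {u w : M} {f k : M →ₗ[ZMod 2] ZMod 2} (hx : Is ρ x u f) (hy : Is ρ y w k)
    (h1 : f w = 0) (h0 : k u = 0) : x * y * (x * y) = 1 := by
  apply D.ext
  intro v
  rw [ap_one, ap_mul, ap_mul, ap_mul, hy.e v, hx.e, hy.e, hx.e]
  simp only [map_add, map_smul, h1, h0, hx.fw, hy.fw, add_zero, smul_eq_mul, mul_zero]
  linear_combination (norm := module) f v • addself u + k v • addself w

/-- the braid relation: `x y x = y x y` -/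
theorem braid (D : Dt ρ) {x y : Γ} {u w : M} {f k : M →ₗ[ZMod 2] ZMod 2} (hx : Is ρ x u f) (hy : Is ρ y w k)
    (h1 : f w = 1) (h0 : k u = 1) : x * y * x = y * x * y := by
  apply D.ext
  intro v
  rw [ap_mul, ap_mul, ap_mul, ap_mul, hx.e v, hy.e, hx.e, hy.e v, hx.e, hy.e]
  simp only [map_add, map_smul, h1, h0, hx.fw, hy.fw, add_zero, smul_eq_mul, mul_one, mul_zero]
  linear_combination (norm := module) f v • addself u - k v • addself w

theorem Is.ne {x y : Γ} {u w : M} {f k : M →ₗ[ZMod 2] ZMod 2} (hx : Is ρ x u f) (hy : Is ρ y w k)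
    (h1 : f w = 1) : x ≠ y := by
  rintro rfl
  have e1 := hx.e w
  rw [h1, one_smul, hy.e w, hy.fw, zero_smul, add_zero] at e1
  exact hx.w0 (by simpa using e1.symm)

/-- two neighbours are not in a common 2-group -/
theorem not_two (D : Dt ρ) {N : Subgroup Γ} (hN : IsPGroup 2 N) {x y : Γ} (xN : x ∈ N) (yN : y ∈ N) {u w : M}
    {f k : M →ₗ[ZMod 2] ZMod 2} (hx : Is ρ x u f) (hy : Is ρ y w k) (h1 : f w = 1) (h0 : k u = 1) : False := by
  have hb := braid D hx hy h1 h0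
  have h3 : (x * y) ^ 3 = 1 := by
    have : (x * y) ^ 3 = (x * y * x) * (y * x * y) := by simp only [pow_succ, pow_zero, one_mul, mul_assoc]
    rw [this, ← hb]
    calc x * y * x * (x * y * x) = x * y * (x * x) * y * x := by group
      _ = x * (y * y) * x := by rw [hx.gg D]; group
      _ = 1 := by rw [hy.gg D, mul_one, hx.gg D]
  obtain ⟨n, hn⟩ := hN ⟨x * y, N.mul_mem xN yN⟩
  have hn' : (x * y) ^ (2 ^ n) = 1 := congrArg Subtype.val hn
  have h4 : orderOf (x * y) ∣ 1 := by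
    have hc : Nat.Coprime 3 (2 ^ n) := Nat.Coprime.pow_right _ (by decide)
    have := Nat.dvd_gcd (orderOf_dvd_of_pow_eq_one h3) (orderOf_dvd_of_pow_eq_one hn')
    rwa [hc] at this
  have h5 : x * y = 1 := orderOf_eq_one_iff.mp (Nat.dvd_one.mp h4)
  apply hx.ne hy h1
  rw [← hy.inv D]
  exact eq_inv_of_mul_eq_one_left h5

theorem isPGroup_pair {t s : Γ} (ht : t * t = 1) (hs : s * s = 1) (h : (t * s) ^ 4 = 1) :
    IsPGroup 2 (Subgroup.closure {t, s} : Subgroup Γ) := by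
  have htinv : t⁻¹ = t := inv_eq_of_mul_eq_one_left ht
  have hsinv : s⁻¹ = s := inv_eq_of_mul_eq_one_left hs
  have hinv : t * (t * s) * t⁻¹ = (t * s)⁻¹ := by
    rw [mul_inv_rev, hsinv, htinv]
    calc t * (t * s) * t = (t * t) * s * t := by group
      _ = s * t := by rw [ht, one_mul]
  have hA : IsPGroup 2 (Subgroup.zpowers (t * s)) := by
    rintro ⟨x, hx⟩
    obtain ⟨n, rfl⟩ := Subgroup.mem_zpowers_iff.1 hx
    refine ⟨2, Subtype.ext ?_⟩
    change ((t * s) ^ n) ^ (2 ^ 2) = 1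
    rw [← zpow_natCast, ← zpow_mul, mul_comm, zpow_mul, zpow_natCast]
    have : (2 : ℕ) ^ 2 = 4 := rfl
    rw [this, h, one_zpow]
  have hT : IsPGroup 2 (Subgroup.zpowers t) := by
    rintro ⟨x, hx⟩
    obtain ⟨n, rfl⟩ := Subgroup.mem_zpowers_iff.1 hx
    refine ⟨1, Subtype.ext ?_⟩
    have h1 : (t ^ n) ^ 2 = 1 := by
      rw [pow_two, ← zpow_add, ← two_mul, zpow_mul]
      norm_cast
      rw [pow_two, ht, one_zpow]
    simpa using h1
  have hnorm : Subgroup.zpowers t ≤ Subgroup.normalizer ((Subgroup.zpowers (t * s) : Subgroup Γ) : Set Γ) := by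
    rw [Subgroup.zpowers_le, Subgroup.mem_normalizer_iff]
    have hfor : ∀ h ∈ Subgroup.zpowers (t * s), t * h * t⁻¹ ∈ Subgroup.zpowers (t * s) := by
      rintro h ⟨n, rfl⟩
      simp only
      rw [← conj_zpow, hinv]
      exact ⟨-n, by simp only [zpow_neg, inv_zpow]⟩
    intro h
    refine ⟨hfor h, fun hh => ?_⟩
    have := hfor _ hh
    rw [htinv] at this
    have h2 : t * (t * h * t) * t = h := by
      calc t * (t * h * t) * t = (t * t) * h * (t * t) := by group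
        _ = h := by rw [ht]; group
    rwa [h2] at this
  refine (IsPGroup.to_sup_of_normal_left' hA hT hnorm).to_le ?_
  rw [Subgroup.closure_le]
  intro w hw
  rcases hw with rfl | hw
  · exact Subgroup.mem_sup_right (Subgroup.mem_zpowers _)
  · rw [Set.mem_singleton_iff] at hw
    subst hw
    have h1 : t * (t * w) = w := by rw [← mul_assoc, ht, one_mul]
    have h2 : t * (t * w) ∈ Subgroup.zpowers (t * w) ⊔ Subgroup.zpowers t :=
      mul_mem (Subgroup.mem_sup_right (Subgroup.mem_zpowers _)) (Subgroup.mem_sup_left (Subgroup.mem_zpowers _))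
    rwa [h1] at h2

/-- **every transvection has a neighbour** -/
theorem Dt.nb [Finite Γ] (D : Dt ρ) {g : Γ} {w : M} {f : M →ₗ[ZMod 2] ZMod 2} (hg : Is ρ g w f) :
    ∃ g' w' f', Is ρ g' w' f' ∧ f w' = 1 ∧ f' w = 1 := by
  by_contra hcon
  push Not at hcon
  have hf : Fact (Nat.Prime 2) := ⟨Nat.prime_two⟩
  have hp : IsPGroup 2 (Subgroup.normalClosure {g} : Subgroup Γ) := by
    refine Involutions.BaerSuzuki.baer_suzuki_element g fun k => ?_
    have hk := hg.conj k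
    refine isPGroup_pair (hg.gg D) (hk.gg D) ?_
    have e4 : (g * (k * g * k⁻¹)) ^ 4 = (g * (k * g * k⁻¹) * (g * (k * g * k⁻¹))) *
        (g * (k * g * k⁻¹) * (g * (k * g * k⁻¹))) := by
      simp only [pow_succ, pow_zero, one_mul, mul_assoc]
    rw [e4]
    rcases z2 (f (ρ k w)) with a | a
    · rcases z2 (cf ρ k f w) with b | b
      · rw [comm_zero D hg hk a b, one_mul]
      · have h1 := comm_one hk hg b a
        have h2 := h1.gg D
        set s := k * g * k⁻¹ with hs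
        have e5 : s * g * (s * g) = (g * s * (g * s))⁻¹ := by
          rw [mul_inv_rev, mul_inv_rev, hg.inv D, hk.inv D]
        rw [e5, ← mul_inv_rev] at h2
        exact inv_eq_one.mp h2
    · rcases z2 (cf ρ k f w) with b | b
      · exact (comm_one hg hk a b).gg D
      · exact absurd b (hcon _ _ _ hk a)
  have h1 := D.core _ Subgroup.normalClosure_normal hp
  have h2 : g ∈ Subgroup.normalClosure ({g} : Set Γ) := Subgroup.subset_normalClosure (by simp)
  rw [h1, mem_bot] at h2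
  obtain ⟨v, hv⟩ := exists_one hg.f0
  have h3 := hg.e v
  rw [h2, ap_one, hv, one_smul] at h3
  exact hg.w0 (by simpa using h3.symm)

/-! ### components -/

/-- neighbours -/
def Ed (ρ : Γ →* Module.End (ZMod 2) M) (p q : M × (M →ₗ[ZMod 2] ZMod 2)) : Prop :=
  (∃ g, Is ρ g p.1 p.2) ∧ (∃ g, Is ρ g q.1 q.2) ∧ p.2 q.1 = 1 ∧ q.2 p.1 = 1

/-- connected -/
def Co (ρ : Γ →* Module.End (ZMod 2) M) : M × (M →ₗ[ZMod 2] ZMod 2) → M × (M →ₗ[ZMod 2] ZMod 2) → Prop :=
  Relation.ReflTransGen (Ed ρ)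

theorem Ed.symm {p q : M × (M →ₗ[ZMod 2] ZMod 2)} (h : Ed ρ p q) : Ed ρ q p :=
  ⟨h.2.1, h.1, h.2.2.2, h.2.2.1⟩

theorem Co.symm {p q : M × (M →ₗ[ZMod 2] ZMod 2)} (h : Co ρ p q) : Co ρ q p := by
  induction h with
  | refl => exact Relation.ReflTransGen.refl
  | tail _ h2 ih => exact Relation.ReflTransGen.head h2.symm ih

theorem Co.trans {p q r : M × (M →ₗ[ZMod 2] ZMod 2)} (h : Co ρ p q) (h' : Co ρ q r) : Co ρ p r :=
  Relation.ReflTransGen.trans h h'

theorem Ed.co {p q : M × (M →ₗ[ZMod 2] ZMod 2)} (h : Ed ρ p q) : Co ρ p q := Relation.ReflTransGen.single h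

/-- the conjugate of a node -/
def cn (ρ : Γ →* Module.End (ZMod 2) M) (k : Γ) (p : M × (M →ₗ[ZMod 2] ZMod 2)) :
    M × (M →ₗ[ZMod 2] ZMod 2) := (ρ k p.1, cf ρ k p.2)

theorem Ed.conj {p q : M × (M →ₗ[ZMod 2] ZMod 2)} (h : Ed ρ p q) (k : Γ) : Ed ρ (cn ρ k p) (cn ρ k q) := by
  obtain ⟨⟨g, hg⟩, ⟨g', hg'⟩, h1, h2⟩ := h
  exact ⟨⟨_, hg.conj k⟩, ⟨_, hg'.conj k⟩, by rw [cn, cn, cf_ap]; exact h1, by rw [cn, cn, cf_ap]; exact h2⟩

theorem Co.conj {p q : M × (M →ₗ[ZMod 2] ZMod 2)} (h : Co ρ p q) (k : Γ) : Co ρ (cn ρ k p) (cn ρ k q) := by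
  induction h with
  | refl => exact Relation.ReflTransGen.refl
  | tail _ h2 ih => exact Relation.ReflTransGen.tail ih (h2.conj k)

/-- connected nodes have conjugate centres -/
theorem Co.exists_conj {p q : M × (M →ₗ[ZMod 2] ZMod 2)} (h : Co ρ p q) : ∃ k, ρ k p.1 = q.1 := by
  induction h with
  | refl => exact ⟨1, ap_one ρ _⟩
  | @tail r s _ h2 ih =>
    obtain ⟨k, hk⟩ := ih
    obtain ⟨⟨g, hg⟩, ⟨g', hg'⟩, h1, h3⟩ := h2
    refine ⟨g * g' * k, ?_⟩
    rw [ap_mul, ap_mul, hk, hg'.e, h3, one_smul, map_add, hg.e, hg.e, hg.fw, h1, zero_smul, one_smul, add_zero]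
    linear_combination (norm := module) addself r.1

/-- **LEMMA COMP** -/
theorem Dt.comp [Finite Γ] (D : Dt ρ) {p q : M × (M →ₗ[ZMod 2] ZMod 2)} (hp : ∃ g, Is ρ g p.1 p.2)
    (hq : ∃ g, Is ρ g q.1 q.2) (h1 : p.2 q.1 = 1) : Co ρ p q := by
  rcases z2 (q.2 p.1) with a | a
  swap
  · exact Ed.co ⟨hp, hq, h1, a⟩
  obtain ⟨x, hx⟩ := hp
  obtain ⟨y, hy⟩ := hq
  obtain ⟨u, f⟩ := p
  obtain ⟨w, k⟩ := q
  simp only at hx hy h1 a
  obtain ⟨g₃, w₃, f₃, hg₃, b1, b2⟩ := D.nb (comm_one hx hy h1 a)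
  -- first move
  obtain ⟨g₄, w₄, f₄, hg₄, c1, c2, c3⟩ : ∃ g₄ w₄ f₄, Is ρ g₄ w₄ f₄ ∧ k w₄ = 1 ∧ f₄ u = 1 ∧ f w₄ = 1 := by
    rcases z2 (f w₃) with d | d
    swap
    · exact ⟨_, _, _, hg₃, b1, b2, d⟩
    · refine ⟨_, _, _, hg₃.conj y, ?_, ?_, ?_⟩
      · rw [hy.e, map_add, map_smul, hy.fw, smul_zero, add_zero, b1]
      · rw [cf_apply, hy.inv D, hy.e, a, zero_smul, add_zero, b2]
      · rw [hy.e, map_add, map_smul, h1, d, b1, one_smul, zero_add]
  obtain ⟨g₅, w₅, f₅, hg₅, e1, e2, e3, e4⟩ : ∃ g₅ w₅ f₅, Is ρ g₅ w₅ f₅ ∧ k w₅ = 1 ∧ f₅ u = 1 ∧ f w₅ = 1 ∧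
      f₅ w = 1 := by
    rcases z2 (f₄ w) with d | d
    swap
    · exact ⟨_, _, _, hg₄, c1, c2, c3, d⟩
    · refine ⟨_, _, _, hg₄.conj x, ?_, ?_, ?_, ?_⟩
      · rw [hx.e, map_add, map_smul, a, smul_zero, add_zero, c1]
      · rw [cf_apply, hx.inv D, hx.e, hx.fw, zero_smul, add_zero, c2]
      · rw [hx.e, map_add, map_smul, hx.fw, smul_zero, add_zero, c3]
      · rw [cf_apply, hx.inv D, hx.e, h1, one_smul, map_add, d, c2, zero_add]
  refine Co.trans (q := (w₅, f₅)) (Ed.co ⟨⟨x, hx⟩, ⟨g₅, hg₅⟩, e3, e2⟩) (Ed.co ⟨⟨g₅, hg₅⟩, ⟨y, hy⟩, e4, e1⟩)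

/-! ### step (i) -/

/-- the property which is constant on the component -/
def Pr (ρ : Γ →* Module.End (ZMod 2) M) (μ : M) (p : M × (M →ₗ[ZMod 2] ZMod 2)) : Prop :=
  (∃ N : Subgroup Γ, IsPGroup 2 N ∧ (∀ h, ρ h (μ + p.1) = μ + p.1 → ∀ n ∈ N, h * n * h⁻¹ ∈ N) ∧
    ∃ g ∈ N, Is ρ g p.1 p.2) ∧ p.2 μ = 0

theorem Pr.step (D : Dt ρ) {μ : M} {p q : M × (M →ₗ[ZMod 2] ZMod 2)} (hP : Pr ρ μ p) (h : Ed ρ p q) :
    Pr ρ μ q := by
  obtain ⟨⟨N, N2, Nn, b, bN, hb⟩, hf⟩ := hP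
  obtain ⟨-, ⟨b', hb'⟩, h1, h2⟩ := h
  obtain ⟨w, f⟩ := p
  obtain ⟨w', f'⟩ := q
  simp only at hb hb' h1 h2 hf Nn
  -- `f'(λ) = 1`
  have h3 : f' (μ + w) = 1 := by
    rcases z2 (f' (μ + w)) with a | a
    swap
    · exact a
    exfalso
    have h4 : b' * b * b'⁻¹ ∈ N := Nn b' (by rw [hb'.e, a, zero_smul, add_zero]) b bN
    refine not_two D N2 bN h4 hb (hb.conj b') ?_ ?_
    · rw [hb'.e, h2, one_smul, map_add, hb.fw, h1, zero_add]
    · rw [cf_apply, hb'.inv D, hb'.e, h2, one_smul, map_add, hb.fw, h1, zero_add]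
  have h4 : f' μ = 0 := by
    rw [map_add, h2] at h3
    rcases z2 (f' μ) with a | a
    · exact a
    · rw [a] at h3; exact absurd h3 (by decide)
  refine ⟨⟨N.map (MulAut.conj (b * b')).toMonoidHom, N2.map _, ?_, b', ?_, hb'⟩, h4⟩
  · intro h hh n hn
    obtain ⟨m, hm, rfl⟩ := hn
    simp only at hh
    -- `b b' (μ + w) = μ + w'`
    have e1 : ρ (b * b') (μ + w) = μ + w' := by
      rw [ap_mul, hb'.e, h3, one_smul, hb.e, map_add, map_add, hf, hb.fw, h1, zero_add, zero_add, one_smul]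
      linear_combination (norm := module) addself w
    have e2 : ρ ((b * b')⁻¹ * h * (b * b')) (μ + w) = μ + w := by
      rw [ap_mul, ap_mul, e1, hh, ← e1, inv_ap]
    refine ⟨_, Nn _ e2 m hm, ?_⟩
    change b * b' * ((b * b')⁻¹ * h * (b * b') * m * ((b * b')⁻¹ * h * (b * b'))⁻¹) * (b * b')⁻¹ =
      h * (b * b' * m * (b * b')⁻¹) * h⁻¹
    group
  · refine ⟨b, bN, ?_⟩
    change b * b' * b * (b * b')⁻¹ = b'
    rw [braid D hb hb' h1 h2, mul_inv_rev, hb.inv D, hb'.inv D]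
    calc b' * b * b' * (b' * b) = b' * b * (b' * b') * b := by group
      _ = b' := by rw [hb'.gg D, mul_one, mul_assoc, hb.gg D, mul_one]

theorem Pr.co (D : Dt ρ) {μ : M} {p q : M × (M →ₗ[ZMod 2] ZMod 2)} (hP : Pr ρ μ p) (h : Co ρ p q) :
    Pr ρ μ q := by
  induction h with
  | refl => exact hP
  | tail _ h2 ih => exact ih.step D h2

/-! ### `O₂(Γ) = 1` -/

theorem Dt.core3 (D : Dt ρ) (E R : Submodule (ZMod 2) M) (hE : ∀ k, ∀ e ∈ E, ρ k e ∈ E)
    (hR : ∀ k, ∀ e ∈ R, ρ k e ∈ R) {g : Γ} (h1 : ∀ v, ρ g v + v ∈ E) (h2 : ∀ e ∈ E, ρ g e + e ∈ R)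
    (h3 : ∀ r ∈ R, ρ g r = r) : g = 1 := by
  let N : Subgroup Γ :=
    { carrier := {g | (∀ v, ρ g v + v ∈ E) ∧ (∀ e ∈ E, ρ g e + e ∈ R) ∧ ∀ r ∈ R, ρ g r = r}
      one_mem' := ⟨fun v => by rw [ap_one, addself]; exact E.zero_mem,
        fun v _ => by rw [ap_one, addself]; exact R.zero_mem, fun r _ => ap_one ρ r⟩
      mul_mem' := by
        rintro a b ⟨a1, a2, a3⟩ ⟨b1, b2, b3⟩
        have key : ∀ v, ρ (a * b) v + v = (ρ a (ρ b v) + ρ b v) + (ρ b v + v) := by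
          intro v
          rw [ap_mul]
          linear_combination (norm := module) (-1 : ZMod 2) • addself (ρ b v)
        refine ⟨fun v => ?_, fun e he => ?_, fun r hr => ?_⟩
        · rw [key]; exact E.add_mem (a1 _) (b1 _)
        · rw [key]; exact R.add_mem (a2 _ (hE b e he)) (b2 e he)
        · rw [ap_mul, b3 r hr, a3 r hr]
      inv_mem' := by
        rintro a ⟨a1, a2, a3⟩
        have key : ∀ v, ρ a⁻¹ v + v = ρ a (ρ a⁻¹ v) + ρ a⁻¹ v := by
          intro v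
          rw [ap_inv, add_comm]
        refine ⟨fun v => ?_, fun e he => ?_, fun r hr => ?_⟩
        · rw [key]; exact a1 _
        · rw [key]; exact a2 _ (hE _ e he)
        · conv_lhs => rw [← a3 r hr]
          exact inv_ap ρ a r }
  have hn : N.Normal := by
    refine ⟨fun a ha k => ?_⟩
    obtain ⟨a1, a2, a3⟩ := ha
    have key : ∀ v, ρ (k * a * k⁻¹) v + v = ρ k (ρ a (ρ k⁻¹ v) + ρ k⁻¹ v) := by
      intro v
      rw [ap_mul, ap_mul, map_add, ap_inv]
    refine ⟨fun v => ?_, fun e he => ?_, fun r hr => ?_⟩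
    · rw [key]; exact hE k _ (a1 _)
    · rw [key]; exact hR k _ (a2 _ (hE _ e he))
    · rw [ap_mul, ap_mul, a3 _ (hR _ r hr), ap_inv]
  have h2' : IsPGroup 2 N := by
    rintro ⟨a, a1, a2, a3⟩
    refine ⟨2, Subtype.ext ?_⟩
    change a ^ (2 ^ 2) = 1
    apply D.ext
    intro v
    have e1 : a ^ (2 ^ 2) = a * (a * (a * a)) := by
      rw [show (2 : ℕ) ^ 2 = 4 from rfl]
      simp only [pow_succ, pow_zero, one_mul, mul_assoc]
    have key : ∀ v, ∃ r ∈ R, ρ a (ρ a v) = v + r := by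
      intro v
      refine ⟨_, a2 _ (a1 v), ?_⟩
      rw [map_add]
      linear_combination (norm := module) (-1 : ZMod 2) • addself (ρ a v) + (-1 : ZMod 2) • addself v
    rw [e1, ap_mul, ap_mul, ap_mul, ap_one]
    obtain ⟨r, hr, e2⟩ := key v
    rw [e2, map_add, map_add, a3 r hr, a3 r hr, e2, add_assoc, addself, add_zero]
  have h4 : g ∈ N := ⟨h1, h2, h3⟩
  rw [D.core N hn h2'] at h4
  exact mem_bot.mp h4

/-! ### step (ii) -/

/-- `E` : the span of the centres -/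
def Ec (ρ : Γ →* Module.End (ZMod 2) M) : Submodule (ZMod 2) M :=
  Submodule.span (ZMod 2) {u | ∃ g f, Is ρ g u f}

/-- `R` : the common kernel of the functionals -/
def Rc (ρ : Γ →* Module.End (ZMod 2) M) : Submodule (ZMod 2) M where
  carrier := {v | ∀ g u f, Is ρ g u f → f v = 0}
  zero_mem' := fun _ _ _ _ => map_zero _
  add_mem' := fun ha hb g u f h => by rw [map_add, ha g u f h, hb g u f h, add_zero]
  smul_mem' := fun c v hv g u f h => by rw [map_smul, hv g u f h, smul_zero]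

theorem Ec_inv (k : Γ) {e : M} (he : e ∈ Ec ρ) : ρ k e ∈ Ec ρ := by
  induction he using Submodule.span_induction with
  | mem u hu =>
    obtain ⟨g, f, h⟩ := hu
    exact Submodule.subset_span ⟨_, _, h.conj k⟩
  | zero => rw [map_zero]; exact Submodule.zero_mem _
  | add u v _ _ hu hv => rw [map_add]; exact Submodule.add_mem _ hu hv
  | smul c u _ hu => rw [map_smul]; exact Submodule.smul_mem _ c hu

theorem Rc_inv (k : Γ) {e : M} (he : e ∈ Rc ρ) : ρ k e ∈ Rc ρ := by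
  intro g u f h
  have h1 := he _ _ _ (h.conj k⁻¹)
  rwa [cf_apply, inv_inv] at h1

/-- `f = f'` on the centres, hence on `E` -/
theorem eq_on_Ec {f f' : M →ₗ[ZMod 2] ZMod 2} (h : ∀ g u k, Is ρ g u k → f u = f' u) {e : M} (he : e ∈ Ec ρ) :
    f e = f' e := by
  induction he using Submodule.span_induction with
  | mem u hu =>
    obtain ⟨g, k, h1⟩ := hu
    exact h g u k h1
  | zero => rw [map_zero, map_zero]
  | add u v _ _ hu hv => rw [map_add, map_add, hu, hv]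
  | smul c u _ hu => rw [map_smul, map_smul, hu]

section two

variable [Finite Γ] (D : Dt ρ) {b : Γ} {w : M} {f : M →ₗ[ZMod 2] ZMod 2} {t : Γ}
include D

/-- case A: `f^t = f` on `E` -/
theorem Dt.caseA (hb : Is ρ b w f) (hr : w + ρ t w ∈ Rc ρ) (hE : ∀ g u k, Is ρ g u k → f u = cf ρ t f u) :
    ρ t w = w := by
  have hbt := hb.conj t
  have h0 : f (ρ t w) = 0 := by
    have := hr _ _ _ hb
    rwa [map_add, hb.fw, zero_add] at this
  have hv : ∀ v, ρ (b * (t * b * t⁻¹)) v = v + cf ρ t f v • ρ t w + f v • w := by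
    intro v
    rw [ap_mul, hbt.e, hb.e, map_add, map_smul, h0, smul_zero, add_zero]
  have wE : w ∈ Ec ρ := Submodule.subset_span ⟨_, _, hb⟩
  have h1 : b * (t * b * t⁻¹) = 1 := by
    refine D.core3 (Ec ρ) (Rc ρ) (fun k e he => Ec_inv k he) (fun k e he => Rc_inv k he) (fun v => ?_)
      (fun e he => ?_) fun r hr' => ?_
    · rw [hv]
      have : v + cf ρ t f v • ρ t w + f v • w + v = cf ρ t f v • ρ t w + f v • w := by
        linear_combination (norm := module) addself v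
      rw [this]
      exact Submodule.add_mem _ (Submodule.smul_mem _ _ (Ec_inv t wE)) (Submodule.smul_mem _ _ wE)
    · rw [hv, ← eq_on_Ec hE he]
      have : e + f e • ρ t w + f e • w + e = f e • (w + ρ t w) := by
        linear_combination (norm := module) addself e
      rw [this]
      exact Submodule.smul_mem _ _ hr
    · rw [hv, hr' _ _ _ hbt, hr' _ _ _ hb, zero_smul, zero_smul, add_zero, add_zero]
  obtain ⟨v, hf⟩ := exists_one hb.f0
  have h2 := hv v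
  rw [h1, ap_one, hf, one_smul] at h2
  rcases z2 (cf ρ t f v) with a | a
  · rw [a, zero_smul, add_zero] at h2
    exact absurd (by simpa using h2.symm) hb.w0
  · rw [a, one_smul] at h2
    linear_combination (norm := module) (-1 : ZMod 2) • h2 - addself w

/-- case B: some centre has `f(w') = 1`, `f^t(w') = 0` -/
theorem Dt.caseB [Finite M] (hb : Is ρ b w f) (hr : w + ρ t w ∈ Rc ρ) {b' : Γ} {w' : M}
    {f' : M →ₗ[ZMod 2] ZMod 2} (hb' : Is ρ b' w' f') (h1 : f w' = 1) (h2 : cf ρ t f w' = 0) : ρ t w = w := by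
  have hfin : Finite (M →ₗ[ZMod 2] ZMod 2) := DFunLike.finite _
  have hbt := hb.conj t
  -- a transvection `(k, w')` with `k(w) = 1`
  obtain ⟨k, ⟨g, hg⟩, hk⟩ : ∃ k, (∃ g, Is ρ g w' k) ∧ k w = 1 := by
    by_contra hcon
    push Not at hcon
    obtain ⟨c, hc⟩ := (D.comp (p := (w, f)) (q := (w', f')) ⟨b, hb⟩ ⟨b', hb'⟩ h1).exists_conj
    simp only at hc
    let F : M → Set (M →ₗ[ZMod 2] ZMod 2) := fun u => {k | ∃ g, Is ρ g u k}
    have hsub : F w' ⊆ F w := by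
      rintro k ⟨g, hg⟩
      have hk : k w = 0 := (z2 _).resolve_right (hcon k ⟨g, hg⟩)
      exact ⟨_, comm_one hb hg h1 hk⟩
    have hle : (F w).ncard ≤ (F w').ncard := by
      refine Set.ncard_le_ncard_of_injOn (cf ρ c) ?_ (cf_inj c).injOn (Set.toFinite _)
      rintro k ⟨g, hg⟩
      exact ⟨_, by rw [← hc]; exact hg.conj c⟩
    have heq := Set.eq_of_subset_of_ncard_le hsub hle (Set.toFinite _)
    have hm : f ∈ F w' := by rw [heq]; exact ⟨b, hb⟩
    obtain ⟨g, hg⟩ := hm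
    have := hg.fw
    rw [h1] at this
    exact one_ne_zero this
  have h3 : k (ρ t w) = 1 := by
    have := hr _ _ _ hg
    rw [map_add, hk] at this
    rcases z2 (k (ρ t w)) with a | a
    · rw [a] at this; exact absurd this (by decide)
    · exact a
  have z1 := comm_one hg hbt h3 h2
  have h4 : cf ρ t f w = 0 := by
    have := hr _ _ _ hbt
    rwa [map_add, cf_ap, hb.fw, add_zero] at this
  have z3 := comm_one hb z1 h1 h4
  by_contra hne
  have hr0 : w + ρ t w ≠ 0 := by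
    intro e
    apply hne
    linear_combination (norm := module) e - addself w
  have z4 : Is ρ (b * (g * (t * b * t⁻¹) * (g * (t * b * t⁻¹))) * (b * (g * (t * b * t⁻¹) *
      (g * (t * b * t⁻¹)))) * (t * b * t⁻¹)) (w + ρ t w) (cf ρ t f) := by
    refine ⟨hr0, hbt.f0, fun v => ?_⟩
    rw [ap_mul, z3.e, hbt.e, map_add, map_smul, cf_ap, hb.fw, smul_zero, add_zero]
    module
  obtain ⟨_, _, f'', h5, -, h6⟩ := D.nb z4
  have := hr _ _ _ h5
  rw [h6] at this
  exact one_ne_zero this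

/-- **(ii)** -/
theorem Dt.fixed [Finite M] (hb : Is ρ b w f) {N : Subgroup Γ} (N2 : IsPGroup 2 N) (bN : b ∈ N) {v₀ : M}
    (Nn : ∀ h, ρ h v₀ = v₀ → ∀ n ∈ N, h * n * h⁻¹ ∈ N) (Nv : ∀ n ∈ N, ρ n v₀ = v₀) (ht : ρ t v₀ = v₀)
    (hc : Co ρ (w, f) (cn ρ t (w, f))) : ρ t w = w := by
  have hbt := hb.conj t
  have hfv : f v₀ = 0 := by
    have := hb.e v₀
    rw [Nv b bN] at this
    rcases z2 (f v₀) with a | a
    · exact a
    · rw [a, one_smul] at this
      exact absurd (by simpa using this.symm) hb.w0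
  have ht' : ρ t⁻¹ v₀ = v₀ := by conv_lhs => rw [← ht, inv_ap]
  have P1 : Pr ρ (v₀ + w) (w, f) := by
    refine ⟨⟨N, N2, fun h hh => Nn h ?_, b, bN, hb⟩, ?_⟩
    · have e : v₀ + w + w = v₀ := by rw [add_assoc, addself, add_zero]
      rwa [e] at hh
    · change f (v₀ + w) = 0
      rw [map_add, hfv, hb.fw, add_zero]
  have P2 : Pr ρ (v₀ + ρ t w) (cn ρ t (w, f)) := by
    refine ⟨⟨N, N2, fun h hh => Nn h ?_, t * b * t⁻¹, Nn t ht b bN, hbt⟩, ?_⟩
    · have e : v₀ + ρ t w + ρ t w = v₀ := by rw [add_assoc, addself, add_zero]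
      change ρ h (v₀ + ρ t w + ρ t w) = v₀ + ρ t w + ρ t w at hh
      rwa [e] at hh
    · change f (ρ t⁻¹ (v₀ + ρ t w)) = 0
      rw [map_add, ht', inv_ap, map_add, hfv, hb.fw, add_zero]
  have hr : w + ρ t w ∈ Rc ρ := by
    intro g u k hg
    have e : w + ρ t w = (v₀ + w) + (v₀ + ρ t w) := by
      linear_combination (norm := module) (-1 : ZMod 2) • addself v₀
    by_cases h : Co ρ (w, f) (u, k)
    · have q1 := (P1.co D h).2
      have q2 := (P2.co D (hc.symm.trans h)).2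
      simp only at q1 q2
      rw [e, map_add, q1, q2, add_zero]
    · have q1 : k w = 0 := by
        rcases z2 (k w) with a | a
        · exact a
        · exact absurd (D.comp (p := (u, k)) (q := (w, f)) ⟨g, hg⟩ ⟨b, hb⟩ a).symm h
      have q2 : k (ρ t w) = 0 := by
        rcases z2 (k (ρ t w)) with a | a
        · exact a
        · exact absurd (hc.trans (D.comp (p := (u, k)) (q := cn ρ t (w, f)) ⟨g, hg⟩ ⟨_, hbt⟩ a).symm) h
      rw [map_add, q1, q2, add_zero]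
  by_cases hE : ∀ g u k, Is ρ g u k → f u = cf ρ t f u
  · exact D.caseA hb hr hE
  push Not at hE
  obtain ⟨g, u, k, hg, hne⟩ := hE
  rcases z2 (f u) with a | a
  · -- use `t⁻¹`
    have a' : cf ρ t f u = 1 := by
      rcases z2 (cf ρ t f u) with a' | a'
      · exact absurd (a.trans a'.symm) hne
      · exact a'
    have hr' : w + ρ t⁻¹ w ∈ Rc ρ := by
      have := Rc_inv t⁻¹ hr
      rw [map_add, inv_ap, add_comm] at this
      exact this
    have := D.caseB hb hr' (hg.conj t⁻¹) (h1 := a') (h2 := by rw [cf_apply, inv_inv, ap_inv]; exact a)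
    conv_lhs => rw [← this]
    exact ap_inv ρ t w
  · have a' : cf ρ t f u = 0 := by
      rcases z2 (cf ρ t f u) with a' | a'
      · exact a'
      · exact absurd (a.trans a'.symm) hne
    exact D.caseB hb hr hg a a'

/-- **THEOREM TR, abstract form** -/
theorem Dt.main [Finite M] (hb : Is ρ b w f) {N : Subgroup Γ} (N2 : IsPGroup 2 N) (bN : b ∈ N) {v₀ : M}
    (Nn : ∀ h, ρ h v₀ = v₀ → ∀ n ∈ N, h * n * h⁻¹ ∈ N) (Nv : ∀ n ∈ N, ρ n v₀ = v₀) :
    ∃ f' : M →ₗ[ZMod 2] ZMod 2, f' w = 1 ∧ ∀ t, ρ t v₀ = v₀ → ρ t w ≠ w → f' (ρ t w) = 0 := by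
  obtain ⟨b', w', f', hb', h1, h2⟩ := D.nb hb
  refine ⟨f', h2, fun t ht hne => ?_⟩
  rcases z2 (f' (ρ t w)) with a | a
  · exact a
  exfalso
  apply hne
  refine D.fixed hb N2 bN Nn Nv ht ?_
  exact (D.comp (p := (w, f)) (q := (w', f')) ⟨b, hb⟩ ⟨b', hb'⟩ h1).trans
    (D.comp (p := (w', f')) (q := cn ρ t (w, f)) ⟨b', hb'⟩ ⟨_, hb.conj t⟩ a)

end two

end Cfsg.Agent.Omega.FOne.NOv.TrA
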