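import Cfsg.Agent.Omega.FOne.NOv.Def
import Cfsg.Agent.Omega.FOne.NOv.TrAbs
import Mathlib.LinearAlgebra.Quotient.Basic

/-!
# THEOREM TR (helper809 #19638, referee helper481 #20070): `TrSwap`

The centre of a transvection of `W / y` in `O₂(C_H(L))` has swapped lifts.
-/

set_option autoImplicit false
set_option linter.unusedSectionVars false

namespace Cfsg.Agent.Omega.FOne.NOv

open Subgroup Cfsg
open Cfsg.Agent.Omega.FOne.Tvw (Base Blk IsTv z2 addself)

universe u

section

variable {W : Type*} [AddCommGroup W] [Module (ZMod 2) W] {H : Subgroup (W ≃ₗ[ZMod 2] W)} {y : W}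

/-- `⟨y⟩` -/
abbrev Sy (y : W) : Submodule (ZMod 2) W := Submodule.span (ZMod 2) {y}

theorem mem_Sy {w : W} : w ∈ Sy y ↔ w = 0 ∨ w = y := by
  rw [Submodule.mem_span_singleton]
  constructor
  · rintro ⟨a, rfl⟩
    rcases z2 a with rfl | rfl
    · left; rw [zero_smul]
    · right; rw [one_smul]
  · rintro (rfl | rfl)
    · exact ⟨0, zero_smul _ _⟩
    · exact ⟨1, one_smul _ _⟩

theorem mk_eq {v w : W} : (Sy y).mkQ v = (Sy y).mkQ w ↔ v = w ∨ v = w + y := by
  rw [← sub_eq_zero, ← map_sub, Submodule.mkQ_apply, Submodule.Quotient.mk_eq_zero, mem_Sy, sub_eq_zero]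
  refine or_congr Iff.rfl ⟨fun h => ?_, fun h => ?_⟩
  · rw [← h]; abel
  · rw [h]; abel

theorem mk_eq_zero {v : W} : (Sy y).mkQ v = 0 ↔ v = 0 ∨ v = y := by
  rw [Submodule.mkQ_apply, Submodule.Quotient.mk_eq_zero, mem_Sy]

/-- the action of `H` on `W / y` -/
noncomputable def rq (b : Base H y) : ↥H →* Module.End (ZMod 2) (W ⧸ Sy y) where
  toFun h := (Sy y).mapQ (Sy y) ((h : W ≃ₗ[ZMod 2] W) : W →ₗ[ZMod 2] W) (by
    intro w hw
    rw [Submodule.mem_comap]
    rcases mem_Sy.mp hw with rfl | rfl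
    · rw [map_zero]; exact zero_mem _
    · have := b.fix h h.2
      change (h : W ≃ₗ[ZMod 2] W) w ∈ Sy w
      rw [this]; exact hw)
  map_one' := by
    apply LinearMap.ext
    intro v
    obtain ⟨w, rfl⟩ := (Sy y).mkQ_surjective v
    rfl
  map_mul' := by
    intro g h
    apply LinearMap.ext
    intro v
    obtain ⟨w, rfl⟩ := (Sy y).mkQ_surjective v
    rfl

theorem rq_mk (b : Base H y) (h : H) (w : W) : rq b h ((Sy y).mkQ w) = (Sy y).mkQ ((h : W ≃ₗ[ZMod 2] W) w) := rfl

theorem dt (b : Base H y) : TrA.Dt (rq b) where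
  inj := by
    rw [injective_iff_map_eq_one]
    intro h e
    apply Subtype.ext
    refine b.faith h h.2 fun w => ?_
    have h1 : rq b h ((Sy y).mkQ w) = (Sy y).mkQ w := by rw [e]; rfl
    rw [rq_mk] at h1
    exact mk_eq.mp h1
  core := by
    intro N hn h2
    have h1 : N.map H.subtype = ⊥ := by
      refine b.core _ (map_subtype_le N) ?_ (h2.map _)
      rintro h hh _ ⟨n, hnN, rfl⟩
      exact ⟨_, hn.conj_mem n hnN ⟨h, hh⟩, rfl⟩
    exact (map_eq_bot_iff_of_injective N H.subtype_injective).mp h1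

/-- the elements of `L` -/
theorem mem_L [Finite W] {L : Submodule (ZMod 2) W} (hc : Nat.card L = 4) (yL : y ∈ L) (y0 : y ≠ 0) {v : W}
    (hv : v ∈ L) (v0 : v ≠ 0) (vy : v ≠ y) {u : W} (hu : u ∈ L) : u = 0 ∨ u = y ∨ u = v ∨ u = v + y := by
  classical
  by_contra hcon
  push Not at hcon
  obtain ⟨c1, c2, c3, c4⟩ := hcon
  have hvy : v + y ∈ L := L.add_mem hv yL
  have e0 : v + y ≠ 0 := fun e => vy (by
    linear_combination (norm := module) e - addself y)
  have e1 : v + y ≠ y := fun e => v0 (by simpa using e)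
  have e2 : v + y ≠ v := fun e => y0 (by simpa using e)
  let s : Finset L := {⟨0, L.zero_mem⟩, ⟨y, yL⟩, ⟨v, hv⟩, ⟨v + y, hvy⟩, ⟨u, hu⟩}
  have hs : s.card = 5 := by
    simp only [s]
    rw [Finset.card_insert_of_notMem, Finset.card_insert_of_notMem, Finset.card_insert_of_notMem,
      Finset.card_insert_of_notMem, Finset.card_singleton]
    · simp only [Finset.mem_singleton, Subtype.mk.injEq]; exact fun e => c4 e.symm
    · simp only [Finset.mem_insert, Finset.mem_singleton, Subtype.mk.injEq]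
      push Not
      exact ⟨e2.symm, fun e => c3 e.symm⟩
    · simp only [Finset.mem_insert, Finset.mem_singleton, Subtype.mk.injEq]
      push Not
      exact ⟨vy.symm, e1.symm, fun e => c2 e.symm⟩
    · simp only [Finset.mem_insert, Finset.mem_singleton, Subtype.mk.injEq]
      push Not
      exact ⟨y0.symm, v0.symm, e0.symm, fun e => c1 e.symm⟩
  let _ : Fintype L := Fintype.ofFinite L
  have h5 : s.card ≤ Fintype.card L := Finset.card_le_univ s
  rw [Nat.card_eq_fintype_card] at hc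
  omega

end

/-- **THEOREM TR** -/
theorem trSwap : TrSwap.{u} := by
  classical
  intro W _ _ _ H y T N L S g hg hT
  obtain ⟨θ, f, d, θ0, θy, f0, e⟩ := hT
  refine ⟨θ, f, d, θ0, θy, f0, e, ?_⟩
  by_contra hcon
  push Not at hcon
  have b := S.base
  have hfinW : Finite (W ≃ₗ[ZMod 2] W) := DFunLike.finite _
  have hgH := S.NH hg
  -- the line
  obtain ⟨v, hvL, v0, vy⟩ : ∃ v ∈ L, v ≠ 0 ∧ v ≠ y := by
    by_contra h
    push Not at h
    have hle : Nat.card L ≤ Nat.card (Sy y) := Nat.card_le_card_of_injective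
      (fun x : L => (⟨x, mem_Sy.mpr (by
        by_cases h0 : (x : W) = 0
        · exact Or.inl h0
        · exact Or.inr (h x x.2 h0))⟩ : Sy y)) fun a c hh => Subtype.ext (congrArg (fun t : Sy y => (t : W)) hh)
    have h2 : Nat.card (Sy y) ≤ 2 := by
      have : Nat.card (Sy y) ≤ Nat.card (ZMod 2) := Nat.card_le_card_of_surjective
        (fun a : ZMod 2 => (⟨a • y, Submodule.smul_mem _ _ (Submodule.mem_span_singleton_self y)⟩ : Sy y)) (by
          rintro ⟨x, hx⟩
          obtain ⟨a, rfl⟩ := Submodule.mem_span_singleton.mp hx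
          exact ⟨a, rfl⟩)
      rwa [Nat.card_zmod] at this
    have h4 := S.card
    omega
  have hL : ∀ u ∈ L, u = 0 ∨ u = y ∨ u = v ∨ u = v + y := fun u hu => mem_L S.card S.yL b.y0 hvL v0 vy hu
  -- `f` as a functional of `W / y`
  have hy : f y = 0 := by
    have e1 := e y
    rw [b.fix g hgH] at e1
    exact (Tvw.indep θ0 θy b.y0 (a := f y) (b := d y) (by
      linear_combination (norm := module) (-1 : ZMod 2) • e1)).1
  let f' : (W ⧸ Sy y) →ₗ[ZMod 2] ZMod 2 := (Sy y).liftQ f (by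
    intro w hw
    rw [LinearMap.mem_ker]
    rcases mem_Sy.mp hw with rfl | rfl
    · exact map_zero f
    · exact hy)
  have hf' : ∀ w, f' ((Sy y).mkQ w) = f w := fun w => rfl
  have is : TrA.Is (rq b) ⟨g, hgH⟩ ((Sy y).mkQ θ) f' := by
    refine ⟨?_, ?_, ?_⟩
    · intro h
      rcases mk_eq_zero.mp h with h | h
      · exact θ0 h
      · exact θy h
    · intro h
      apply f0
      ext w
      rw [← hf', h]; rfl
    · intro x
      obtain ⟨w, rfl⟩ := (Sy y).mkQ_surjective x
      rw [rq_mk, hf', ← map_smul, ← map_add, mk_eq]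
      change g w = _ ∨ g w = _
      rw [e]
      rcases z2 (d w) with a | a
      · left; rw [a, zero_smul, add_zero]
      · right; rw [a, one_smul]
  have hfinQ : Finite (W ⧸ Sy y) := Finite.of_surjective _ (Sy y).mkQ_surjective
  obtain ⟨F, hF1, hF2⟩ := (dt b).main is (N := N.subgroupOf H) (v₀ := (Sy y).mkQ v)
    (S.N2.comap_of_injective _ (subtype_injective H)) (mem_subgroupOf.mpr hg) (by
      intro h hh n hn
      rw [rq_mk, mk_eq] at hh
      rw [mem_subgroupOf] at hn ⊢
      refine S.Nn h h.2 (fun u hu => ?_) n hn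
      have hy := b.fix h h.2
      have hv : (h : W ≃ₗ[ZMod 2] W) v ∈ L := by
        rcases hh with hh | hh <;> rw [hh]
        · exact hvL
        · exact L.add_mem hvL S.yL
      rcases hL u hu with rfl | rfl | rfl | rfl
      · rw [map_zero]; exact hu
      · rw [hy]; exact hu
      · exact hv
      · rw [map_add, hy]; exact L.add_mem hv S.yL) (by
      intro n hn
      rw [rq_mk, mk_eq]
      exact Or.inl (S.NL n (mem_subgroupOf.mp hn) v hvL))
  -- the sum over the orbit
  let _ : Fintype W := Fintype.ofFinite W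
  let O : Finset W := Finset.univ.filter fun u => ∃ t ∈ T, t θ = u
  have hO : ∀ u, u ∈ O ↔ ∃ t ∈ T, t θ = u := fun u => by simp [O]
  have hfix : ∀ t ∈ T, t (∑ u ∈ O, u) = ∑ u ∈ O, u := by
    intro t ht
    rw [map_sum]
    refine Finset.sum_bij (fun u _ => t u) (fun u hu => ?_) (fun u _ u' _ h => t.injective h) (fun u hu => ?_)
      fun u _ => rfl
    · obtain ⟨s, hs, rfl⟩ := (hO u).mp hu
      exact (hO _).mpr ⟨t * s, T.mul_mem ht hs, rfl⟩
    · obtain ⟨s, hs, rfl⟩ := (hO u).mp hu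
      exact ⟨t⁻¹ (s θ), (hO _).mpr ⟨t⁻¹ * s, T.mul_mem (T.inv_mem ht) hs, rfl⟩, Tvw.ap_inv t _⟩
  have hsum : F ((Sy y).mkQ (∑ u ∈ O, u)) = 1 := by
    rw [map_sum, map_sum, Finset.sum_eq_single_of_mem θ ((hO θ).mpr ⟨1, T.one_mem, rfl⟩), hF1]
    intro u hu hne
    obtain ⟨t, ht, rfl⟩ := (hO u).mp hu
    have htH := S.TH ht
    have h1 : rq b ⟨t, htH⟩ ((Sy y).mkQ v) = (Sy y).mkQ v := by
      rw [rq_mk, mk_eq]
      change t v = v ∨ t v = v + y
      rcases hL _ (S.TL t ht v hvL) with h | h | h | h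
      · exfalso; rw [← map_zero t] at h; exact v0 (t.injective h)
      · exfalso
        rw [← b.fix t htH] at h
        exact vy (t.injective h)
      · exact Or.inl h
      · exact Or.inr h
    refine hF2 ⟨t, htH⟩ h1 ?_
    rw [rq_mk]
    intro h
    rcases mk_eq.mp h with h | h
    · exact hne h
    · exact hcon t htH h
  rcases S.fixT _ hfix with h | h
  · rw [h, map_zero, map_zero] at hsum
    exact zero_ne_one hsum
  · have : (Sy y).mkQ y = 0 := mk_eq_zero.mpr (Or.inr rfl)
    rw [h, this, map_zero] at hsum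
    exact zero_ne_one hsum

end Cfsg.Agent.Omega.FOne.NOv
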