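import Cfsg.Agent.Omega.FOne.NOv.Split
import Cfsg.Agent.Omega.FOne.Plug

/-!
# (F1') from (NO) only: `PTv` and (ML) give `Rep.PSin`
-/

set_option autoImplicit false
set_option linter.unusedSectionVars false

namespace Cfsg.Agent.Omega.FOne.NOv

open Subgroup Cfsg
open Cfsg.Agent.Omega.FOne.Tvw (Base Blk IsTv z2 addself)
open Cfsg.Agent.ClassTwoFusion.Quad
open Cfsg.Agent.Omega.ML.MinFrame

universe u

section act

variable {W : Type u} [AddCommGroup W] [Module (ZMod 2) W]

/-- `W / y`, written multiplicatively -/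
abbrev QM (y : W) : Type u := Multiplicative (W ⧸ Submodule.span (ZMod 2) {y})

/-- the class of `w` -/
def qm (y w : W) : QM y := Multiplicative.ofAdd (Submodule.Quotient.mk w)

theorem qm_surj (y : W) (v : QM y) : ∃ w, qm y w = v := by
  obtain ⟨w, hw⟩ := Submodule.Quotient.mk_surjective _ (Multiplicative.toAdd v)
  exact ⟨w, by rw [qm, hw]; rfl⟩

theorem qm_add (y v w : W) : qm y (v + w) = qm y v * qm y w := rfl

theorem qm_zero (y : W) : qm y 0 = 1 := rfl

theorem qm_eq {y v w : W} : qm y v = qm y w ↔ v = w ∨ v = w + y := by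
  have h1 : qm y v = qm y w ↔ v - w ∈ Submodule.span (ZMod 2) {y} := Submodule.Quotient.eq _
  rw [h1, Submodule.mem_span_singleton]
  constructor
  · rintro ⟨a, ha⟩
    rcases z2 a with rfl | rfl
    · left; rw [zero_smul] at ha; exact sub_eq_zero.mp ha.symm
    · right; rw [one_smul] at ha; rw [ha]; abel
  · rintro (h | h)
    · exact ⟨0, by rw [h]; simp⟩
    · exact ⟨1, by rw [h]; simp⟩

theorem map_span {y : W} {g : W ≃ₗ[ZMod 2] W} (hg : g y = y) :
    Submodule.span (ZMod 2) {y} ≤ (Submodule.span (ZMod 2) {y}).comap (g : W →ₗ[ZMod 2] W) := by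
  rw [Submodule.span_le, Set.singleton_subset_iff]
  change g y ∈ Submodule.span (ZMod 2) {y}
  rw [hg]
  exact Submodule.mem_span_singleton_self y

/-- `H` acts on `W / y` -/
@[reducible] def qact (H : Subgroup (W ≃ₗ[ZMod 2] W)) (y : W) (hy : ∀ h ∈ H, h y = y) :
    MulDistribMulAction H (QM y) where
  smul h v := Multiplicative.ofAdd (Submodule.mapQ _ _ (h.1 : W →ₗ[ZMod 2] W) (map_span (hy h.1 h.2))
    (Multiplicative.toAdd v))
  one_smul v := by
    obtain ⟨w, rfl⟩ := qm_surj y v
    rfl
  mul_smul g h v := by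
    obtain ⟨w, rfl⟩ := qm_surj y v
    rfl
  smul_mul h v w := by
    obtain ⟨v, rfl⟩ := qm_surj y v
    obtain ⟨w, rfl⟩ := qm_surj y w
    change qm y ((h : W ≃ₗ[ZMod 2] W) (v + w)) = qm y ((h : W ≃ₗ[ZMod 2] W) v) * qm y ((h : W ≃ₗ[ZMod 2] W) w)
    rw [map_add]; rfl
  smul_one h := by
    change qm y ((h : W ≃ₗ[ZMod 2] W) 0) = 1
    rw [map_zero]; rfl

end act

section no

variable {W : Type u} [AddCommGroup W] [Module (ZMod 2) W] [Finite W]

theorem card_cm {y : W} (y0 : y ≠ 0) (B : Subgroup (W ≃ₗ[ZMod 2] W)) (C : Subgroup (QM y))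
    (hC : ∀ w, qm y w ∈ C ↔ w ∈ cm y B) : Nat.card (cm y B) = 2 * Nat.card C := by
  classical
  have hfQ : Finite (QM y) := Finite.of_surjective (qm y) (qm_surj y)
  -- a section
  choose s hs using qm_surj y
  let φ : Bool × C → cm y B := fun p => ⟨s p.2.1 + (if p.1 then y else 0), by
    refine (hC _).mp ?_
    have : qm y (s p.2.1 + (if p.1 then y else 0)) = p.2.1 := by
      rw [← hs p.2.1]
      refine qm_eq.mpr ?_
      rw [hs]
      split_ifs
      · right; rfl
      · left; rw [add_zero]
    rw [this]; exact p.2.2⟩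
  have hφ : Function.Bijective φ := by
    constructor
    · rintro ⟨b, c⟩ ⟨b', c'⟩ hh
      have h1 : s c.1 + (if b then y else 0) = s c'.1 + (if b' then y else 0) := congrArg Subtype.val hh
      have h2 : c = c' := by
        apply Subtype.ext
        rw [← hs c.1, ← hs c'.1]
        refine qm_eq.mpr ?_
        have h3 : s c.1 = s c'.1 + ((if b' then y else 0) - (if b then y else 0)) := by
          rw [add_sub, ← h1]; abel
        rw [h3]
        split_ifs
        · left; simp
        · right; simp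
        · right
          rw [zero_sub]
          congr 1
          exact neg_eq_of_add_eq_zero_left (addself y)
        · left; simp
      subst h2
      have h3 := add_left_cancel h1
      cases b <;> cases b' <;> simp at h3 <;> first | rfl | exact absurd h3 y0 | exact absurd h3.symm y0
    · rintro ⟨w, hw⟩
      have h1 : qm y w ∈ C := (hC w).mpr hw
      have h2 := hs (qm y w)
      rcases qm_eq.mp h2 with h3 | h3
      · exact ⟨(false, ⟨_, h1⟩), Subtype.ext (by change s (qm y w) + _ = w; rw [h3]; simp)⟩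
      · refine ⟨(true, ⟨_, h1⟩), Subtype.ext ?_⟩
        change s (qm y w) + _ = w
        rw [h3]
        simp only [if_true]
        rw [add_assoc, addself, add_zero]
  rw [← Nat.card_eq_of_bijective φ hφ, Nat.card_prod]
  simp

/-- **(NO)** -/
theorem no_of (hML : ML.Final.MLK.{u, u}) {H : Subgroup (W ≃ₗ[ZMod 2] W)} {y : W} {T Q B : Subgroup (W ≃ₗ[ZMod 2] W)}
    {L : Submodule (ZMod 2) W} (hK : IsKGroupWith IsKnownSimple' H) (b : Base H y) (hTH : T ≤ H) (hT : IsPGroup 2 T)
    (hsyl : ¬ 2 ∣ T.relIndex H) (hcard : Nat.card L = 4) (hyL : y ∈ L) (hTL : ∀ t ∈ T, ∀ v ∈ L, t v ∈ L)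
    (hgen : ∀ U : Submodule (ZMod 2) W, (∀ h ∈ H, ∀ v ∈ L, h v ∈ U) → U = ⊤)
    (hQH : Q ≤ H) (hQ : IsPGroup 2 Q) (hQL : ∀ q ∈ Q, ∀ v ∈ L, q v ∈ L)
    (hQn : ∀ h ∈ H, (∀ v ∈ L, h v ∈ L) → ∀ q ∈ Q, h * q * h⁻¹ ∈ Q) (hBQ : B ≤ Q) (hB : ∀ b ∈ B, b * b = 1) :
    Nat.card B * Nat.card (cm y B) ≤ Nat.card W := by
  classical
  have hfin : Finite (W ≃ₗ[ZMod 2] W) := DFunLike.finite _
  let _ := qact H y b.fix
  have hfQ : Finite (QM y) := Finite.of_surjective (qm y) (qm_surj y)
  have hsm : ∀ (h : H) (w : W), h • qm y w = qm y ((h : W ≃ₗ[ZMod 2] W) w) := fun _ _ => rfl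
  -- the generator of `L` modulo `y`
  obtain ⟨l, hl, hlL⟩ : ∃ l ∈ L, ∀ v, v ∈ L ↔ v = 0 ∨ v = y ∨ v = l ∨ v = l + y := by
    obtain ⟨l, hl, l0, ly⟩ : ∃ l ∈ L, l ≠ 0 ∧ l ≠ y := by
      by_contra hcon
      push Not at hcon
      have h1 : (L : Set W) ⊆ (({0, y} : Finset W) : Set W) := by
        intro v hv
        by_cases h0 : v = 0
        · simp [h0]
        · simp [hcon v hv h0]
      have h2 := Set.ncard_le_ncard h1 (Finset.finite_toSet _)
      rw [Set.ncard_coe_finset] at h2
      have h3 : (L : Set W).ncard = 4 := hcard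
      have h4 := Finset.card_le_two (a := (0 : W)) (b := y)
      omega
    refine ⟨l, hl, fun v => ⟨fun hv => ?_, ?_⟩⟩
    · have h1 : (({0, y, l, l + y} : Finset W) : Set W) ⊆ (L : Set W) := by
        intro x hx
        simp only [Finset.coe_insert, Finset.coe_singleton, Set.mem_insert_iff, Set.mem_singleton_iff] at hx
        rcases hx with rfl | rfl | rfl | rfl
        · exact L.zero_mem
        · exact hyL
        · exact hl
        · exact L.add_mem hl hyL
      have hc : ({0, y, l, l + y} : Finset W).card = 4 := by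
        have n1 : (0 : W) ∉ ({y, l, l + y} : Finset W) := by
          simp only [Finset.mem_insert, Finset.mem_singleton]
          rintro (h | h | h)
          · exact b.y0 h.symm
          · exact l0 h.symm
          · exact ly (Tvw.eq_of_add_eq_zero' h.symm)
        have n2 : y ∉ ({l, l + y} : Finset W) := by
          simp only [Finset.mem_insert, Finset.mem_singleton]
          rintro (h | h)
          · exact ly h.symm
          · exact l0 (by simpa using h.symm)
        have n3 : l ∉ ({l + y} : Finset W) := by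
          simp only [Finset.mem_singleton]
          intro h
          exact b.y0 (by simpa using h.symm)
        rw [Finset.card_insert_of_notMem n1, Finset.card_insert_of_notMem n2, Finset.card_insert_of_notMem n3,
          Finset.card_singleton]
      have h3 : (L : Set W).ncard = 4 := hcard
      have h2 := Set.eq_of_subset_of_ncard_le h1 (by rw [Set.ncard_coe_finset, hc, h3]) (Set.toFinite _)
      have h4 : v ∈ (({0, y, l, l + y} : Finset W) : Set W) := by rw [h2]; exact hv
      simpa using h4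
    · rintro (rfl | rfl | rfl | rfl)
      · exact L.zero_mem
      · exact hyL
      · exact hl
      · exact L.add_mem hl hyL
  have l0 : l ≠ 0 ∧ l ≠ y := by
    have h1 : ¬ (L : Set W) ⊆ (({0, y} : Finset W) : Set W) := by
      intro h1
      have h2 := Set.ncard_le_ncard h1 (Finset.finite_toSet _)
      rw [Set.ncard_coe_finset] at h2
      have h3 : (L : Set W).ncard = 4 := hcard
      have h4 := Finset.card_le_two (a := (0 : W)) (b := y)
      omega
    constructor
    · rintro rfl
      apply h1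
      intro v hv
      rcases (hlL v).mp hv with h | h | h | h <;> simp [h]
    · rintro rfl
      apply h1
      intro v hv
      rcases (hlL v).mp hv with h | h | h | h
      · simp [h]
      · simp [h]
      · simp [h]
      · rw [addself] at h; simp [h]
  -- elements of `H` which stabilise `L` fix the class of `l`, and conversely
  have hfix : ∀ (h : H), (∀ v ∈ L, (h : W ≃ₗ[ZMod 2] W) v ∈ L) → h • qm y l = qm y l := by
    intro h hh
    rw [hsm, qm_eq]
    obtain ⟨n0, ny⟩ := Tvw.Blk.ne_of b h.2 l0.1 l0.2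
    rcases (hlL _).mp (hh l hl) with h1 | h1 | h1 | h1
    · exact absurd h1 n0
    · exact absurd h1 ny
    · exact Or.inl h1
    · exact Or.inr h1
  have hstab : ∀ (h : H), h • qm y l = qm y l → ∀ v ∈ L, (h : W ≃ₗ[ZMod 2] W) v ∈ L := by
    intro h hh v hv
    rw [hsm, qm_eq] at hh
    have hly : (h : W ≃ₗ[ZMod 2] W) l ∈ L := by
      rcases hh with h1 | h1 <;> rw [h1]
      · exact hl
      · exact L.add_mem hl hyL
    rcases (hlL v).mp hv with h1 | h1 | h1 | h1 <;> rw [h1]
    · rw [map_zero]; exact L.zero_mem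
    · rw [b.fix _ h.2]; exact hyL
    · exact hly
    · rw [map_add, b.fix _ h.2]; exact L.add_mem hly hyL
  have hD : ML.Final.Dat (C := H) (V := QM y) (T.subgroupOf H) (Q.subgroupOf H) (B.subgroupOf H) (qm y l) := by
    refine ⟨?_, hT.of_equiv (subgroupOfEquivOfLe hTH).symm, hsyl, ?_, ?_, ?_, ?_, ?_, ?_⟩
    · intro v
      obtain ⟨w, rfl⟩ := qm_surj y v
      rw [← qm_add, addself, qm_zero]
    · intro t ht
      exact hfix t fun v hv => hTL _ ht v hv
    · intro q hq
      obtain ⟨n, hn⟩ := hQ ⟨q, hq⟩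
      refine ⟨n, fun v => ?_⟩
      have h2 : (q : W ≃ₗ[ZMod 2] W) ^ 2 ^ n = 1 := congrArg Subtype.val hn
      have h1 : q ^ 2 ^ n = 1 := Subtype.ext h2
      rw [h1, one_smul]
    · intro q hq
      exact hfix q fun v hv => hQL _ hq v hv
    · intro g hg q hq
      exact ⟨g * q * g⁻¹, hQn g g.2 (hstab g hg) q hq, fun _ => rfl⟩
    · intro a ha
      exact ⟨a, hBQ ha, fun _ => rfl⟩
    · intro a ha v
      have h1 : a * a = 1 := Subtype.ext (hB _ ha)
      rw [← mul_smul, h1, one_smul]
  have key := hML.act hK hD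
  -- the orbit of `l` generates
  have horb : orb (⊤ : Subgroup H) (qm y l) = ⊤ := by
    let U : Submodule (ZMod 2) W :=
      { carrier := {w | qm y w ∈ orb (⊤ : Subgroup H) (qm y l)}
        zero_mem' := by
          change qm y 0 ∈ orb (⊤ : Subgroup H) (qm y l)
          rw [qm_zero]; exact one_mem _
        add_mem' := fun {a c} ha hc => by
          change qm y (a + c) ∈ orb (⊤ : Subgroup H) (qm y l)
          rw [qm_add]; exact mul_mem ha hc
        smul_mem' := fun c w hw => by
          change qm y (c • w) ∈ orb (⊤ : Subgroup H) (qm y l)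
          rcases z2 c with rfl | rfl
          · rw [zero_smul, qm_zero]; exact one_mem _
          · rw [one_smul]; exact hw }
    have hU : U = ⊤ := by
      refine hgen U fun h hh v hv => ?_
      change qm y (h v) ∈ orb (⊤ : Subgroup H) (qm y l)
      have h1 : qm y (h v) = (⟨h, hh⟩ : H) • qm y v := rfl
      rw [h1]
      have h2 : ∀ w, (w = 0 ∨ w = y) → qm y w = 1 := by
        intro w hw
        rw [← qm_zero y, qm_eq, zero_add]; exact hw
      rcases (hlL v).mp hv with h3 | h3 | h3 | h3
      · rw [h2 v (Or.inl h3), smul_one]; exact one_mem _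
      · rw [h2 v (Or.inr h3), smul_one]; exact one_mem _
      · rw [h3]; exact smul_mem_orb_self (mem_top _)
      · have h4 : qm y v = qm y l := qm_eq.mpr (Or.inr h3)
        rw [h4]; exact smul_mem_orb_self (mem_top _)
    rw [eq_top_iff]
    intro v _
    obtain ⟨w, rfl⟩ := qm_surj y v
    have : w ∈ U := by rw [hU]; exact Submodule.mem_top
    exact this
  rw [horb] at key
  -- the kernel is trivial
  have hker : fxr H (⊤ : Subgroup (QM y)) = ⊥ := by
    rw [eq_bot_iff]
    intro h hh
    rw [mem_bot]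
    apply Subtype.ext
    refine b.faith _ h.2 fun w => ?_
    have h1 : h • qm y w = qm y w := hh _ (mem_top _)
    rw [hsm, qm_eq] at h1
    exact h1
  rw [hker, relIndex_bot_left, relIndex_top_right] at key
  set C := cv (QM y) ((B.subgroupOf H : Subgroup H) : Set H) with hCdef
  have hCm : ∀ w, qm y w ∈ C ↔ w ∈ cm y B := by
    intro w
    constructor
    · intro h1 a ha
      have h2 : (⟨a, hQH (hBQ ha)⟩ : H) • qm y w = qm y w := h1 _ ha
      rw [hsm, qm_eq] at h2
      exact h2
    · intro h1 a ha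
      change a • qm y w = qm y w
      rw [hsm, qm_eq]
      exact h1 _ ha
  have h1 := card_cm b.y0 B C hCm
  have h2 : Nat.card (cm y (⊥ : Subgroup (W ≃ₗ[ZMod 2] W))) = 2 * Nat.card (⊤ : Subgroup (QM y)) := by
    refine card_cm b.y0 ⊥ ⊤ fun w => ⟨fun _ a ha => ?_, fun _ => mem_top _⟩
    rw [mem_bot.mp ha]; left; rfl
  have h3 : Nat.card (cm y (⊥ : Subgroup (W ≃ₗ[ZMod 2] W))) = Nat.card W := by
    have : cm y (⊥ : Subgroup (W ≃ₗ[ZMod 2] W)) = Set.univ := by
      rw [Set.eq_univ_iff_forall]
      intro w a ha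
      rw [mem_bot.mp ha]; left; rfl
    rw [this, Nat.card_univ]
  rw [h3, Subgroup.card_top] at h2
  have h4 : Nat.card C * C.index = Nat.card (QM y) := C.card_mul_index
  have h5 : Nat.card (B.subgroupOf H) = Nat.card B := Nat.card_congr (subgroupOfEquivOfLe (hBQ.trans hQH)).toEquiv
  rw [h5] at key
  rw [h1, h2, ← h4]
  calc Nat.card B * (2 * Nat.card C) ≤ C.index * (2 * Nat.card C) := Nat.mul_le_mul_right _ key
    _ = 2 * (Nat.card C * C.index) := by ring

end no

/-- **`PSin` from (ML) and `PTv`** -/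
theorem psin_of (hML : ML.Final.MLK.{u, u}) (hP : PTv.{u}) : Rep.PSin.{u} := by
  intro W _ _ _ H y T A N L hK b hTH hT hsyl hfix hcard hyL hTL hsw hgen hNH hN hNL hNn hAN hA1 hsq hcomm hquad hle
  have S : Sw H y T N L :=
    { known := hK, base := b, TH := hTH, two := hT, syl := hsyl, fixT := hfix, card := hcard, yL := hyL
      TL := hTL, swap := hsw, gen := hgen, NH := hNH, N2 := hN, NL := hNL, Nn := hNn
      no := fun Q hQH hQ hQL hQn B hB hB2 =>
        no_of hML hK b hTH hT hsyl hcard hyL hTL hgen hQH hQ hQL hQn hB hB2 }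
  have hno : ∀ B ≤ A, Nat.card B * Nat.card (cm y B) ≤ Nat.card W := fun B hB =>
    S.no N hNH hN (fun n hn v hv => by rw [hNL n hn v hv]; exact hv) hNn B (hB.trans hAN) fun b hb => hsq b (hB hb)
  have e1 : Nat.card {w : W // ∀ a ∈ A, a w = w} = Nat.card (cw A) := rfl
  rw [e1] at hle ⊢
  have h1 : Nat.card (cw A) ≤ Nat.card (cms y A) := card_le_of_le cw_le_cms
  have h2 : Nat.card A * Nat.card (cms y A) ≤ Nat.card W := hno A le_rfl
  have h3 : Nat.card A * Nat.card (cw A) ≤ Nat.card A * Nat.card (cms y A) := Nat.mul_le_mul_left _ h1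
  have hApos : 0 < Nat.card A := by
    have hfin : Finite (W ≃ₗ[ZMod 2] W) := DFunLike.finite _
    exact Nat.card_pos
  have h4 : Nat.card (cms y A) ≤ Nat.card (cw A) := by
    refine Nat.le_of_mul_le_mul_left ?_ hApos
    omega
  have h5 : cw A = cms y A := eq_of_le_card cw_le_cms h4
  have hex : WEx y A := by
    refine ⟨?_, fun w hw => ?_⟩
    · show Nat.card A * Nat.card (cms y A) = Nat.card W
      omega
    · have : w ∈ cms y A := hw
      rw [← h5] at this
      exact this
  refine ⟨by omega, ?_⟩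
  refine split b (hAN.trans hNH) hsq hex hno fun B hB hB1 hBe => ?_
  exact hP W H y T N B L S ⟨hB.trans hAN, fun a ha => hsq a (hB ha),
    fun a ha c hc w => hquad a (hB ha) c (hB hc) w, hBe⟩ hB1

/-- **`PTv` from `AtomTwo` and `TrSwap`** -/
theorem ptv_of (h1 : AtomTwo.{u}) (h2 : TrSwap.{u}) : PTv.{u} := by
  intro W _ _ _ H y T N A L S X hne
  exact exists_tv_of S.base.y0 X.wex.ex hne (fun B hB hB' => h1 W H y T N A B L S X hB hB')
    fun g hg hg' => h2 W H y T N L S g (X.AN hg) hg'

/-- **(F1) for the leaf `TwoOne`** from (ML) and `PTv` -/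
theorem fOneP_of (K : Frame.Cls.{u}) (hML : ML.Final.MLK.{u, u}) (hP : PTv.{u}) : NO3S.TwoOne.FOneP K :=
  FOne.Plug.fOneP K (psin_of hML hP)

end Cfsg.Agent.Omega.FOne.NOv
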