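import Cfsg.Agent.Omega.FOne.NOv.Def

/-!
# The SPLIT LEMMA (bb OMEGA 07:33Z): `A` is generated by transvections

`Base H y`; `A ≤ H` elementary abelian, `W`-exact, (NO) for the subgroups of `A`, every `W`-exact `1 ≠ B ≤ A`
contains a transvection of `W / y` with swapped centre.  Then `A` is generated by its transvections.
-/

set_option autoImplicit false
set_option linter.unusedSectionVars false

namespace Cfsg.Agent.Omega.FOne.NOv

open Subgroup Cfsg
open Cfsg.Agent.Omega.FOne.Tvw (Base Blk IsTv z2 addself)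

section

variable {W : Type*} [AddCommGroup W] [Module (ZMod 2) W] {y : W} {H A B : Subgroup (W ≃ₗ[ZMod 2] W)}

/-- the pointwise stabiliser of `X` -/
def pst (X : Submodule (ZMod 2) W) : Subgroup (W ≃ₗ[ZMod 2] W) where
  carrier := {g | ∀ x ∈ X, g x = x}
  one_mem' := fun _ _ => rfl
  mul_mem' := fun {a b} ha hb x hx => by
    change a (b x) = x
    rw [hb x hx, ha x hx]
  inv_mem' := fun {a} ha x hx => by
    have := congrArg (fun u => a⁻¹ u) (ha x hx)
    simp only [Tvw.inv_ap] at this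
    exact this.symm

theorem mem_pst {X : Submodule (ZMod 2) W} {g : W ≃ₗ[ZMod 2] W} : g ∈ pst X ↔ ∀ x ∈ X, g x = x := Iff.rfl

theorem ap_sq {a : W ≃ₗ[ZMod 2] W} (h : a * a = 1) (w : W) : a (a w) = w := by
  have := congrArg (fun e : W ≃ₗ[ZMod 2] W => e w) h
  simpa using this

theorem comm_of_sq (sq : ∀ a ∈ A, a * a = 1) {a b : W ≃ₗ[ZMod 2] W} (ha : a ∈ A) (hb : b ∈ A) : a * b = b * a := by
  have h1 := sq _ (A.mul_mem ha hb)
  have h2 := inv_eq_of_mul_eq_one_left h1
  rw [mul_inv_rev, inv_eq_of_mul_eq_one_left (sq a ha), inv_eq_of_mul_eq_one_left (sq b hb)] at h2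
  exact h2.symm

/-- a linear map with values in `{0, y, θ, θ + y}` -/
theorem exists_fd {θ : W} (y0 : y ≠ 0) (θ0 : θ ≠ 0) (θy : θ ≠ y) {g : W ≃ₗ[ZMod 2] W}
    (h : ∀ w, g w + w = 0 ∨ g w + w = y ∨ g w + w = θ ∨ g w + w = θ + y) :
    ∃ f d : W →ₗ[ZMod 2] ZMod 2, ∀ w, g w = w + f w • θ + d w • y := by
  have h1 : θ ∉ Submodule.span (ZMod 2) {y} := by
    rw [Submodule.mem_span_singleton]
    rintro ⟨a, ha⟩
    rcases z2 a with rfl | rfl
    · rw [zero_smul] at ha; exact θ0 ha.symm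
    · rw [one_smul] at ha; exact θy ha.symm
  have h2 : y ∉ Submodule.span (ZMod 2) {θ} := by
    rw [Submodule.mem_span_singleton]
    rintro ⟨a, ha⟩
    rcases z2 a with rfl | rfl
    · rw [zero_smul] at ha; exact y0 ha.symm
    · rw [one_smul] at ha; exact θy ha
  obtain ⟨φ, φ1, φ2⟩ := Submodule.exists_le_ker_of_notMem h1
  obtain ⟨π, π1, π2⟩ := Submodule.exists_le_ker_of_notMem h2
  have a1 : φ θ = 1 := (z2 _).resolve_left φ1
  have a2 : φ y = 0 := φ2 (Submodule.mem_span_singleton_self y)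
  have a3 : π y = 1 := (z2 _).resolve_left π1
  have a4 : π θ = 0 := π2 (Submodule.mem_span_singleton_self θ)
  refine ⟨φ.comp ((g : W →ₗ[ZMod 2] W) + LinearMap.id), π.comp ((g : W →ₗ[ZMod 2] W) + LinearMap.id), fun w => ?_⟩
  change g w = w + φ (g w + w) • θ + π (g w + w) • y
  have e : g w = w + (g w + w) := by
    linear_combination (norm := module) (-1 : ZMod 2) • addself w
  rcases h w with h3 | h3 | h3 | h3
  · rw [h3, map_zero, map_zero, zero_smul, zero_smul]
    rw [h3] at e; simpa using e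
  · rw [h3, a2, a3, zero_smul, one_smul, add_zero]
    rw [h3] at e; exact e
  · rw [h3, a1, a4, zero_smul, one_smul, add_zero]
    rw [h3] at e; exact e
  · rw [h3, map_add, map_add, a1, a2, a3, a4, zero_add, add_zero, one_smul, one_smul]
    rw [h3] at e
    rw [e]; abel

/-- the functional of a transvection is not trivial on the block of its centre -/
theorem moved [Finite W] {X : Submodule (ZMod 2) W} (hX : Blk H y X) {θ : W} (hθ : θ ∈ X) (θ0 : θ ≠ 0) (θy : θ ≠ y)
    {f d : W →ₗ[ZMod 2] ZMod 2} (hf : f ≠ 0) (s : Tvw.St H y θ f d) : ∃ x ∈ X, f x = 1 := by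
  obtain ⟨Θ, h, t1, t2, t3, p1, p2, p3, F, rfl⟩ := hX
  have hm := F.blk_mem h hθ θ0 θy
  have hc := F.cd_ne_zero h hθ θ0 θy
  obtain ⟨k, rfl, -⟩ := F.eq_pv h hm hc s
  by_contra hcon
  push Not at hcon
  apply hf
  have : k = 0 := by
    apply Tvw.dec12
    intro c
    rw [Tvw.zero_dot, ← F.pv_tv k c]
    exact (z2 _).resolve_right (hcon _ (Tvw.tv_mem_blk _ _ _ _ _))
  rw [this, Tvw.pv_zero]

/-- **the index of `C_A(X)`** -/
theorem idx_le [Finite W] {X : Submodule (ZMod 2) W} (hX : Blk H y X) (hA : A ≤ H) (sq : ∀ a ∈ A, a * a = 1)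
    {u : W} (hu : u ∈ X) (u0 : u ≠ 0) (uy : u ≠ y) (hf : ∀ a ∈ A, a u = u) : (pst X).relIndex A ≤ 4 := by
  classical
  have hfin : Finite (W ≃ₗ[ZMod 2] W) := DFunLike.finite _
  by_contra hcon
  push Not at hcon
  let Q := A ⧸ (pst X).subgroupOf A
  let _ : Fintype Q := Fintype.ofFinite Q
  have hc : 4 < Fintype.card Q := by
    rw [← Nat.card_eq_fintype_card]; exact hcon
  let q0 : Q := ((1 : A) : A ⧸ (pst X).subgroupOf A)
  have hc2 : Fintype.card (Fin 4) ≤ Fintype.card {q : Q // q ≠ q0} := by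
    rw [Fintype.card_subtype_compl, Fintype.card_subtype_eq, Fintype.card_fin]
    omega
  obtain ⟨φ⟩ := Function.Embedding.nonempty_of_card_le hc2
  choose g hg using fun i => QuotientGroup.mk_surjective (φ i).1
  have hne : ∀ i, ∃ x ∈ X, (g i : W ≃ₗ[ZMod 2] W) x ≠ x := by
    intro i
    by_contra hco
    push Not at hco
    apply (φ i).2
    rw [← hg i]
    refine (QuotientGroup.eq.mpr ?_).symm
    rw [inv_one, one_mul, mem_subgroupOf]
    exact hco
  obtain ⟨i, j, hij, hx⟩ := hX.four hu u0 uy (fun i => (g i : W ≃ₗ[ZMod 2] W)) (fun i => hA (g i).2)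
    (fun i => hf _ (g i).2) (fun i x _ => ap_sq (sq _ (g i).2) x) hne
  apply hij
  apply φ.injective
  apply Subtype.ext
  rw [← hg i, ← hg j]
  refine QuotientGroup.eq.mpr ?_
  rw [mem_subgroupOf]
  intro x hxX
  change (g i : W ≃ₗ[ZMod 2] W)⁻¹ ((g j : W ≃ₗ[ZMod 2] W) x) = x
  rw [← hx x hxX, Tvw.inv_ap]

/-- the centre of a transvection `g` commuting with `A` is fixed by the `W`-exact group `A` -/
theorem fix_ctr (b : Base H y) (hA : A ≤ H) (ex : WEx y A) {g : W ≃ₗ[ZMod 2] W} (hc : ∀ a ∈ A, a * g = g * a)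
    {θ : W} {f d : W →ₗ[ZMod 2] ZMod 2} (θ0 : θ ≠ 0) (θy : θ ≠ y) (hf : f ≠ 0)
    (e : ∀ w, g w = w + f w • θ + d w • y) {a : W ≃ₗ[ZMod 2] W} (ha : a ∈ A) : a θ = θ := by
  refine ex.fix θ (fun a ha => ?_) a ha
  obtain ⟨w, hw⟩ : ∃ w, f w = 1 := by
    by_contra hcon
    push Not at hcon
    exact hf (LinearMap.ext fun w => (z2 (f w)).resolve_right (hcon w))
  have h1 : a (g w) = g (a w) := congrArg (fun e : W ≃ₗ[ZMod 2] W => e w) (hc a ha)
  rw [e, e, map_add, map_add, map_smul, map_smul, b.fix a (hA ha), hw, one_smul] at h1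
  have h2 : a θ = f (a w) • θ + (d (a w) + d w) • y := by
    linear_combination (norm := module) h1 - (d w) • addself y
  have hne := Tvw.Blk.ne_of b (hA ha) θ0 θy
  rcases z2 (f (a w)) with h3 | h3
  · exfalso
    rw [h3, zero_smul, zero_add] at h2
    rcases z2 (d (a w) + d w) with h4 | h4 <;> rw [h4] at h2
    · exact hne.1 (by rw [h2, zero_smul])
    · exact hne.2 (by rw [h2, one_smul])
  · rw [h3, one_smul] at h2
    rcases z2 (d (a w) + d w) with h4 | h4 <;> rw [h4] at h2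
    · left; rw [h2, zero_smul, add_zero]
    · right; rw [h2, one_smul]

theorem card_sup_inf [Finite W] (P Q : Submodule (ZMod 2) W) :
    Nat.card ↥(P ⊔ Q) * Nat.card ↥(P ⊓ Q) = Nat.card P * Nat.card Q := by
  rw [Module.natCard_eq_pow_finrank (K := ZMod 2) (V := ↥(P ⊔ Q)),
    Module.natCard_eq_pow_finrank (K := ZMod 2) (V := ↥(P ⊓ Q)),
    Module.natCard_eq_pow_finrank (K := ZMod 2) (V := P), Module.natCard_eq_pow_finrank (K := ZMod 2) (V := Q),
    ← pow_add, ← pow_add, Submodule.finrank_sup_add_finrank_inf_eq]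

theorem card_le_of_le [Finite W] {P Q : Submodule (ZMod 2) W} (h : P ≤ Q) : Nat.card P ≤ Nat.card Q :=
  Nat.card_le_card_of_injective (Submodule.inclusion h) (Submodule.inclusion_injective h)

theorem eq_of_le_card [Finite W] {P Q : Submodule (ZMod 2) W} (h : P ≤ Q) (h2 : Nat.card Q ≤ Nat.card P) :
    P = Q := by
  apply SetLike.coe_injective
  refine Set.eq_of_subset_of_ncard_le h ?_ (Set.toFinite _)
  exact h2

/-- **one block** : `B = C_A(X)` has index 4 in `A`, is `W`-exact, `C_W(B) = X + C_W(A)` -/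
theorem step [Finite W] (b : Base H y) (hA : A ≤ H) (sq : ∀ a ∈ A, a * a = 1) (ex : WEx y A)
    (no : ∀ B ≤ A, Nat.card B * Nat.card (cm y B) ≤ Nat.card W) {g : W ≃ₗ[ZMod 2] W} (hg : g ∈ A)
    {θ : W} {f d : W →ₗ[ZMod 2] ZMod 2} (θ0 : θ ≠ 0) (θy : θ ≠ y) (hf : f ≠ 0)
    (e : ∀ w, g w = w + f w • θ + d w • y) {X : Submodule (ZMod 2) W} (hX : Blk H y X) (hθ : θ ∈ X) :
    4 * Nat.card ↥(A ⊓ pst X) = Nat.card A ∧ cw (A ⊓ pst X) = X ⊔ cw A ∧ WEx y (A ⊓ pst X) := by
  classical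
  have hfin : Finite (W ≃ₗ[ZMod 2] W) := DFunLike.finite _
  have hfix : ∀ a ∈ A, a θ = θ := fun a ha =>
    fix_ctr b hA ex (fun a ha => comm_of_sq sq ha hg) θ0 θy hf e ha
  have hXi : ∀ a ∈ A, ∀ x ∈ X, a x ∈ X := fun a ha x hx =>
    hX.inv_of (hA ha) hθ θ0 θy (by rw [hfix a ha]; exact hθ) hx
  have hidx := idx_le hX hA sq hθ θ0 θy hfix
  -- `|A| ≤ 4 |B|`
  have h1 : Nat.card A = Nat.card ↥(A ⊓ pst X) * (pst X).relIndex A := by
    have h2 := relIndex_mul_relIndex ⊥ (A ⊓ pst X) A bot_le inf_le_left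
    rw [relIndex_bot_left, relIndex_bot_left] at h2
    rw [← h2, inf_relIndex_left]
  have h2 : Nat.card A ≤ 4 * Nat.card ↥(A ⊓ pst X) := by
    rw [h1, mul_comm]; exact Nat.mul_le_mul_right _ hidx
  -- `|X ∩ C_W(A)| ≤ 4`
  obtain ⟨x, hx, fx⟩ := moved hX hθ θ0 θy hf ⟨g, hA hg, e⟩
  obtain ⟨θ', hθ', t0, ty, hC, -⟩ := hX.inv (hA hg) (hXi g hg) (fun x _ => ap_sq (sq g hg) x) ⟨x, hx, by
    intro h3
    rw [e x, fx, one_smul] at h3
    have h4 : (1 : ZMod 2) • θ + d x • y = 0 := by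
      rw [one_smul]; rw [add_assoc] at h3; simpa using h3
    exact one_ne_zero (Tvw.indep θ0 θy b.y0 h4).1⟩
  have h3 : Nat.card ↥(X ⊓ cw A) ≤ 4 := by
    have h4 : ((X ⊓ cw A : Submodule (ZMod 2) W) : Set W) ⊆ (({0, y, θ', θ' + y} : Finset W) : Set W) := by
      rintro w ⟨hw1, hw2⟩
      have := (hC w hw1).mp (hw2 g hg)
      simpa using this
    have h5 := Set.ncard_le_ncard h4 (Finset.finite_toSet _)
    rw [Set.ncard_coe_finset] at h5
    exact h5.trans Finset.card_le_four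
  have h4 := card_sup_inf X (cw A)
  rw [hX.card] at h4
  have h5 : 4 * Nat.card (cw A) ≤ Nat.card ↥(X ⊔ cw A) := by
    have h6 : Nat.card ↥(X ⊔ cw A) * Nat.card ↥(X ⊓ cw A) ≤ Nat.card ↥(X ⊔ cw A) * 4 :=
      Nat.mul_le_mul_left _ h3
    omega
  have h6 : X ⊔ cw A ≤ cw (A ⊓ pst X) := by
    refine sup_le (fun x hx a ha => ha.2 x hx) fun w hw a ha => hw a ha.1
  have h7 : Nat.card ↥(X ⊔ cw A) ≤ Nat.card ↥(cw (A ⊓ pst X)) := card_le_of_le h6
  have h8 : Nat.card ↥(cw (A ⊓ pst X)) ≤ Nat.card ↥(cms y (A ⊓ pst X)) := card_le_of_le cw_le_cms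
  have h9 : Nat.card ↥(A ⊓ pst X) * Nat.card ↥(cms y (A ⊓ pst X)) ≤ Nat.card W := no _ inf_le_left
  have h10 := ex.card
  set β := Nat.card ↥(A ⊓ pst X) with hβ
  set γ := Nat.card ↥(cw A) with hγ
  set δ := Nat.card ↥(cms y (A ⊓ pst X)) with hδ
  have hβ0 : 0 < β := Nat.card_pos
  have hγ0 : 0 < γ := Nat.card_pos
  have h11 : 4 * γ ≤ δ := h5.trans (h7.trans h8)
  -- `|W| = |A| γ ≤ 4 β γ ≤ β δ ≤ |W|`
  have h12 : Nat.card A * γ ≤ 4 * β * γ := Nat.mul_le_mul_right _ h2
  have h13 : β * (4 * γ) ≤ β * δ := Nat.mul_le_mul_left _ h11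
  have h14 : 4 * β * γ = β * (4 * γ) := by ring
  have h15 : β * (4 * γ) = β * δ := by omega
  have h16 : 4 * γ = δ := Nat.eq_of_mul_eq_mul_left hβ0 h15
  have h17 : Nat.card A * γ = 4 * β * γ := by omega
  have h18 : 4 * β = Nat.card A := (Nat.eq_of_mul_eq_mul_right hγ0 h17).symm
  have h19 : X ⊔ cw A = cw (A ⊓ pst X) := eq_of_le_card h6 (by omega)
  have h20 : cw (A ⊓ pst X) = cms y (A ⊓ pst X) := eq_of_le_card cw_le_cms (by omega)
  refine ⟨h18, h19.symm, ?_, ?_⟩
  · show β * δ = Nat.card W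
    omega
  · intro w hw
    have : w ∈ cms y (A ⊓ pst X) := hw
    rw [← h20] at this
    exact this

/-- atoms exist -/
theorem exists_atom [Finite W] (hne : A ≠ ⊥) (ex : MEx y A) : ∃ B ≤ A, MAtom y B := by
  classical
  have hfin : Finite (W ≃ₗ[ZMod 2] W) := DFunLike.finite _
  have hfs : Finite (Subgroup (W ≃ₗ[ZMod 2] W)) :=
    Finite.of_injective (fun X : Subgroup (W ≃ₗ[ZMod 2] W) => (X : Set (W ≃ₗ[ZMod 2] W))) SetLike.coe_injective
  have hf : {B : Subgroup (W ≃ₗ[ZMod 2] W) | B ≤ A ∧ B ≠ ⊥ ∧ MEx y B}.Finite := Set.toFinite _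
  obtain ⟨B, ⟨hB1, hB2, hB3⟩, hmin⟩ := hf.exists_minimal ⟨A, le_rfl, hne, ex⟩
  exact ⟨B, hB1, hB2, hB3, fun B' h1 h2 h3 => le_antisymm h1 (hmin ⟨h1.trans hB1, h2, h3⟩ h1)⟩

/-- an `M`-exact group of order 2 is generated by a transvection of `W / y` -/
theorem isTm_of [Finite W] (y0 : y ≠ 0) (ex : MEx y B) (h2 : Nat.card B = 2) : ∃ g ∈ B, IsTm y g := by
  classical
  have hfin : Finite (W ≃ₗ[ZMod 2] W) := DFunLike.finite _
  obtain ⟨g, hg, hg1⟩ : ∃ g ∈ B, g ≠ 1 := by
    by_contra hcon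
    push Not at hcon
    have : B = ⊥ := (Subgroup.eq_bot_iff_forall B).mpr hcon
    rw [this, Subgroup.card_bot] at h2
    omega
  have hB : ∀ x ∈ B, x = 1 ∨ x = g := by
    intro x hx
    by_contra hcon
    push Not at hcon
    have h3 : (({1, g, x} : Finset (W ≃ₗ[ZMod 2] W)) : Set (W ≃ₗ[ZMod 2] W)) ⊆ (B : Set (W ≃ₗ[ZMod 2] W)) := by
      intro k hk
      simp only [Finset.coe_insert, Finset.coe_singleton, Set.mem_insert_iff, Set.mem_singleton_iff] at hk
      rcases hk with rfl | rfl | rfl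
      · exact B.one_mem
      · exact hg
      · exact hx
    have h4 := Set.ncard_le_ncard h3 (Set.toFinite _)
    rw [Set.ncard_coe_finset, Finset.card_eq_three.mpr ⟨1, g, x, hg1.symm, hcon.1.symm, hcon.2.symm, rfl⟩] at h4
    have h5 : (B : Set (W ≃ₗ[ZMod 2] W)).ncard = 2 := h2
    omega
  -- a vector outside `cm`
  have h3 : ∃ w0, w0 ∉ cms y B := by
    by_contra hcon
    push Not at hcon
    have h4 : cms y B = ⊤ := by rw [eq_top_iff]; intro w _; exact hcon w
    have h5 : Nat.card B * Nat.card (cms y B) = Nat.card W := ex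
    rw [h4, h2, Nat.card_congr (Submodule.topEquiv (R := ZMod 2) (M := W)).toEquiv] at h5
    have : 0 < Nat.card W := Nat.card_pos
    omega
  obtain ⟨w0, hw0⟩ := h3
  have hw0' : g w0 ≠ w0 ∧ g w0 ≠ w0 + y := by
    constructor
    · intro h4
      apply hw0
      intro k hk
      rcases hB k hk with rfl | rfl
      · left; rfl
      · left; exact h4
    · intro h4
      apply hw0
      intro k hk
      rcases hB k hk with rfl | rfl
      · left; rfl
      · right; exact h4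
  have θ0 : g w0 + w0 ≠ 0 := fun h4 => hw0'.1 (Tvw.eq_of_add_eq_zero' h4)
  have θy : g w0 + w0 ≠ y := fun h4 => hw0'.2 (by
    rw [← h4]; linear_combination (norm := module) (-1 : ZMod 2) • addself w0)
  -- `cm` has index 2
  have h4 : ∀ w, w ∈ cms y B ∨ w + w0 ∈ cms y B := by
    have h5 : Nat.card B * Nat.card (cms y B) = Nat.card W := ex
    rw [h2] at h5
    intro w
    by_contra hcon
    push Not at hcon
    -- three cosets
    have h6 : Disjoint ((cms y B : Submodule (ZMod 2) W) : Set W) ((fun v => v + w0) '' (cms y B : Set W)) := by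
      rw [Set.disjoint_left]
      rintro v hv ⟨v', hv', rfl⟩
      apply hw0
      have := (cms y B).add_mem hv hv'
      have e1 : v' + w0 + v' = w0 := by linear_combination (norm := module) addself v'
      rwa [show (fun v => v + w0) v' + v' = w0 from e1] at this
    have h7 : w ∉ ((cms y B : Submodule (ZMod 2) W) : Set W) ∪ ((fun v => v + w0) '' (cms y B : Set W)) := by
      rintro (h8 | ⟨v, hv, rfl⟩)
      · exact hcon.1 h8
      · apply hcon.2
        have e1 : (fun v => v + w0) v + w0 = v := by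
          change v + w0 + w0 = v
          linear_combination (norm := module) addself w0
        rw [e1]; exact hv
    have h8 : (((cms y B : Submodule (ZMod 2) W) : Set W) ∪ ((fun v => v + w0) '' (cms y B : Set W))).ncard <
        (Set.univ : Set W).ncard :=
      Set.ncard_lt_ncard ⟨Set.subset_univ _, fun h9 => h7 (h9 (Set.mem_univ w))⟩ (Set.toFinite _)
    rw [Set.ncard_union_eq h6 (Set.toFinite _) (Set.toFinite _), Set.ncard_image_of_injective _
      (add_left_injective w0), Set.ncard_univ] at h8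
    have h9 : ((cms y B : Submodule (ZMod 2) W) : Set W).ncard = Nat.card (cms y B) := rfl
    omega
  have h5 : ∀ w, g w + w = 0 ∨ g w + w = y ∨ g w + w = g w0 + w0 ∨ g w + w = g w0 + w0 + y := by
    intro w
    rcases h4 w with h6 | h6
    · rcases h6 g hg with h7 | h7
      · left; rw [h7]; exact addself w
      · right; left; rw [h7]; linear_combination (norm := module) addself w
    · rcases h6 g hg with h7 | h7
      · right; right; left
        rw [map_add] at h7
        linear_combination (norm := module) h7 + addself w - addself (g w0)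
      · right; right; right
        rw [map_add] at h7
        linear_combination (norm := module) h7 + addself w - addself (g w0)
  obtain ⟨f, d, e⟩ := exists_fd y0 θ0 θy h5
  refine ⟨g, hg, _, f, d, θ0, θy, ?_, e⟩
  rintro rfl
  have h6 := e w0
  rw [LinearMap.zero_apply, zero_smul, add_zero] at h6
  rcases z2 (d w0) with h7 | h7 <;> rw [h7] at h6
  · exact hw0'.1 (by rw [h6, zero_smul, add_zero])
  · exact hw0'.2 (by rw [h6, one_smul])

/-- the frame of the induction -/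
structure Out (H : Subgroup (W ≃ₗ[ZMod 2] W)) (y : W) (A : Subgroup (W ≃ₗ[ZMod 2] W))
    (J : Finset (Submodule (ZMod 2) W)) : Prop where
  blk : ∀ X ∈ J, Blk H y X ∧ ∃ g ∈ A, ∃ (θ : W) (f d : W →ₗ[ZMod 2] ZMod 2), θ ∈ X ∧ θ ≠ 0 ∧ θ ≠ y ∧ f ≠ 0 ∧
    ∀ w, g w = w + f w • θ + d w • y
  card : Nat.card A = 4 ^ J.card
  gen : ∀ w, ∃ v ∈ J.sup id, w + v ∈ cw A
  cl : A ≤ Subgroup.closure {g | g ∈ A ∧ IsTv H y g}

/-- the pointwise stabiliser of a finite set of blocks -/
theorem idx_sup [Finite W] {D : Subgroup (W ≃ₗ[ZMod 2] W)} (J : Finset (Submodule (ZMod 2) W))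
    (h : ∀ X ∈ J, (pst X).relIndex D ≤ 4) : (pst (J.sup id)).relIndex D ≤ 4 ^ J.card := by
  classical
  have hfin : Finite (W ≃ₗ[ZMod 2] W) := DFunLike.finite _
  induction J using Finset.induction_on with
  | empty =>
    have : pst (W := W) ((∅ : Finset (Submodule (ZMod 2) W)).sup id) = ⊤ := by
      rw [eq_top_iff]
      intro g _ x hx
      rw [Finset.sup_empty, Submodule.mem_bot] at hx
      rw [hx, map_zero]
    rw [this, relIndex_top_left]
    simp
  | insert X J hXJ ih =>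
    have h1 := ih fun X' hX' => h X' (Finset.mem_insert_of_mem hX')
    have h2 := h X (Finset.mem_insert_self X J)
    rw [Finset.card_insert_of_notMem hXJ, Finset.sup_insert, pow_succ]
    have h3 : pst (W := W) (X ⊔ J.sup id) = pst X ⊓ pst (J.sup id) := by
      ext g
      constructor
      · intro hg
        exact ⟨fun x hx => hg x (Submodule.mem_sup_left hx), fun x hx => hg x (Submodule.mem_sup_right hx)⟩
      · rintro ⟨hg1, hg2⟩ x hx
        obtain ⟨a, ha, c, hc, rfl⟩ := Submodule.mem_sup.mp hx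
        rw [map_add, hg1 a ha, hg2 c hc]
    change (pst (X ⊔ J.sup id)).relIndex D ≤ _
    rw [h3]
    calc (pst X ⊓ pst (J.sup id)).relIndex D ≤ (pst X).relIndex D * (pst (J.sup id)).relIndex D :=
          relIndex_inf_le
      _ ≤ 4 * 4 ^ J.card := Nat.mul_le_mul h2 h1
      _ = _ := by ring

theorem split_aux [Finite W] (b : Base H y) : ∀ n : ℕ, ∀ A : Subgroup (W ≃ₗ[ZMod 2] W), A ≤ H → Nat.card A = n →
    (∀ a ∈ A, a * a = 1) → WEx y A → (∀ B ≤ A, Nat.card B * Nat.card (cm y B) ≤ Nat.card W) →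
    (∀ B ≤ A, B ≠ ⊥ → WEx y B → ∃ g ∈ B, IsTv H y g) → ∃ J, Out H y A J := by
  classical
  have hfin : Finite (W ≃ₗ[ZMod 2] W) := DFunLike.finite _
  intro n
  induction n using Nat.strong_induction_on with
  | _ n ih =>
  intro A hA hn sq ex no htv
  by_cases hbot : A = ⊥
  · subst hbot
    refine ⟨∅, by simp, by simp, fun w => ⟨0, Submodule.zero_mem _, ?_⟩, bot_le⟩
    intro a ha
    rw [mem_bot.mp ha]; rfl
  obtain ⟨g, hg, θ, f, d, θ0, θy, hf, e, hs⟩ := htv A le_rfl hbot ex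
  obtain ⟨X, hX, hθ⟩ := Blk.exists_of_tv b (hA hg) θ0 θy hf e hs
  obtain ⟨s1, s2, s3⟩ := step b hA sq ex no hg θ0 θy hf e hX hθ
  set B := A ⊓ pst X with hBdef
  have hBA : B ≤ A := inf_le_left
  have hBpos : 0 < Nat.card B := Nat.card_pos
  obtain ⟨J, O⟩ := ih (Nat.card B) (by omega) B (hBA.trans hA) rfl (fun a ha => sq a (hBA ha)) s3
    (fun B' h' => no B' (h'.trans hBA)) (fun B' h' => htv B' (h'.trans hBA))
  -- `C = C_A(Σ J)`
  have hidx : ∀ X' ∈ J, (pst X').relIndex A ≤ 4 := by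
    intro X' hX'
    obtain ⟨hb, g', hg', θ', f', d', hθ', t0, ty, hf', e'⟩ := O.blk X' hX'
    refine idx_le hb hA sq hθ' t0 ty fun a ha => ?_
    exact fix_ctr b hA ex (fun a ha => comm_of_sq sq ha (hBA hg')) t0 ty hf' e' ha
  have hC1 := idx_sup J hidx
  set C := A ⊓ pst (J.sup id) with hCdef
  have hCA : C ≤ A := inf_le_left
  have h1 : Nat.card A = Nat.card C * (pst (J.sup id)).relIndex A := by
    have h2 := relIndex_mul_relIndex ⊥ C A bot_le inf_le_left
    rw [relIndex_bot_left, relIndex_bot_left] at h2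
    rw [← h2, hCdef, inf_relIndex_left]
  have h2 : Nat.card A ≤ Nat.card C * Nat.card B := by
    rw [h1, O.card]; exact Nat.mul_le_mul_left _ hC1
  -- `C ∩ B = 1`
  have h3 : ∀ c ∈ C, c ∈ B → c = 1 := by
    intro c hc hcB
    ext w
    obtain ⟨v, hv, hwv⟩ := O.gen w
    have e1 := hwv c hcB
    rw [map_add, hc.2 v hv] at e1
    exact add_right_cancel e1
  have h4 : 4 ≤ Nat.card C := by
    by_contra hcon
    push Not at hcon
    have : Nat.card C * Nat.card B ≤ 3 * Nat.card B := Nat.mul_le_mul_right _ (by omega)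
    omega
  -- the elements of `C`
  have h5 : ∀ c ∈ C, c ≠ 1 → IsTv H y c := by
    intro c hc c1
    have hcA := hCA hc
    have key : ∀ w, ∃ x ∈ X, c w + w = c x + x := by
      intro w
      obtain ⟨v, hv, hwv⟩ := O.gen w
      rw [s2] at hwv
      obtain ⟨x, hx, a, ha, e1⟩ := Submodule.mem_sup.mp hwv
      refine ⟨x, hx, ?_⟩
      have e2 : w = x + a + v := by
        rw [e1]; linear_combination (norm := module) (-1 : ZMod 2) • addself v
      rw [e2, map_add, map_add, hc.2 v hv, ha c hcA]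
      linear_combination (norm := module) addself a + addself v
    have hXi : ∀ x ∈ X, c x ∈ X := fun x hx => hX.inv_of (hA hcA) hθ θ0 θy (by
      rw [fix_ctr b hA ex (fun a ha => comm_of_sq sq ha hg) θ0 θy hf e hcA]; exact hθ) hx
    have hne : ∃ x ∈ X, c x ≠ x := by
      by_contra hcon
      push Not at hcon
      apply c1
      ext w
      obtain ⟨x, hx, e1⟩ := key w
      rw [hcon x hx, addself] at e1
      exact Tvw.eq_of_add_eq_zero' e1
    obtain ⟨θ', hθ', t0, ty, hCx, -⟩ := hX.inv (hA hcA) hXi (fun x _ => ap_sq (sq c hcA) x) hne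
    have h6 : ∀ w, c w + w = 0 ∨ c w + w = y ∨ c w + w = θ' ∨ c w + w = θ' + y := by
      intro w
      obtain ⟨x, hx, e1⟩ := key w
      rw [e1]
      refine (hCx _ (X.add_mem (hXi x hx) hx)).mp ?_
      rw [map_add, ap_sq (sq c hcA), add_comm]
    obtain ⟨f', d', e'⟩ := exists_fd b.y0 t0 ty h6
    refine ⟨θ', f', d', t0, ty, ?_, e', hX.swap hθ' t0 ty⟩
    rintro rfl
    apply c1
    refine b.faith c (hA hcA) fun w => ?_
    have e1 := e' w
    rw [LinearMap.zero_apply, zero_smul, add_zero] at e1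
    rcases z2 (d' w) with e2 | e2 <;> rw [e2] at e1
    · left; rw [e1, zero_smul, add_zero]
    · right; rw [e1, one_smul]
  have hXJ : X ∉ J := by
    intro hXJ
    have h6 : C ≤ B := by
      intro c hc
      refine ⟨hCA hc, fun x hx => hc.2 x ?_⟩
      exact (Finset.le_sup (f := id) hXJ : X ≤ J.sup id) hx
    have h7 : C = ⊥ := (Subgroup.eq_bot_iff_forall C).mpr fun c hc => h3 c hc (h6 hc)
    rw [h7, Subgroup.card_bot] at h4
    omega
  refine ⟨insert X J, ?_, ?_, ?_, ?_⟩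
  · intro X' hX'
    rcases Finset.mem_insert.mp hX' with rfl | hX'
    · exact ⟨hX, g, hg, θ, f, d, hθ, θ0, θy, hf, e⟩
    · obtain ⟨hb, g', hg', r⟩ := O.blk X' hX'
      exact ⟨hb, g', hBA hg', r⟩
  · rw [Finset.card_insert_of_notMem hXJ, pow_succ, ← O.card, ← s1, mul_comm]
  · intro w
    obtain ⟨v, hv, hwv⟩ := O.gen w
    rw [s2] at hwv
    obtain ⟨x, hx, a, ha, e1⟩ := Submodule.mem_sup.mp hwv
    refine ⟨v + x, ?_, ?_⟩
    · rw [Finset.sup_insert]
      exact Submodule.add_mem _ (Submodule.mem_sup_right hv) (Submodule.mem_sup_left hx)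
    · have e2 : w + (v + x) = a := by
        rw [← add_assoc, ← e1]; linear_combination (norm := module) addself x
      rw [e2]; exact ha
  · -- `A = B C`
    set K := Subgroup.closure {g | g ∈ A ∧ IsTv H y g} with hK
    have hBK : B ≤ K := O.cl.trans (closure_mono fun g hg => ⟨hBA hg.1, hg.2⟩)
    have hCK : C ≤ K := by
      intro c hc
      by_cases c1 : c = 1
      · rw [c1]; exact K.one_mem
      · exact subset_closure ⟨hCA hc, h5 c hc c1⟩
    let φ : C × B → A := fun p => ⟨p.1 * p.2, A.mul_mem (hCA p.1.2) (hBA p.2.2)⟩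
    have hφ : Function.Injective φ := by
      rintro ⟨c, k⟩ ⟨c', k'⟩ hh
      have h6 : (c : W ≃ₗ[ZMod 2] W) * k = c' * k' := congrArg Subtype.val hh
      have h7 : (c' : W ≃ₗ[ZMod 2] W)⁻¹ * c = k' * (k : W ≃ₗ[ZMod 2] W)⁻¹ := by
        rw [inv_mul_eq_iff_eq_mul, ← mul_assoc, ← h6, mul_inv_cancel_right]
      have h8 := h3 _ (C.mul_mem (C.inv_mem c'.2) c.2) (by rw [h7]; exact B.mul_mem k'.2 (B.inv_mem k.2))
      have h9 : (c' : W ≃ₗ[ZMod 2] W) = c := inv_mul_eq_one.mp h8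
      rw [h9] at h6
      have h10 := mul_left_cancel h6
      exact Prod.ext (Subtype.ext h9.symm) (Subtype.ext h10)
    have hφ2 : Function.Surjective φ := by
      refine (Function.Injective.bijective_of_nat_card_le hφ ?_).2
      rw [Nat.card_prod]; exact h2
    intro a ha
    obtain ⟨⟨c, k⟩, hck⟩ := hφ2 ⟨a, ha⟩
    have : (c : W ≃ₗ[ZMod 2] W) * k = a := congrArg Subtype.val hck
    rw [← this]
    exact K.mul_mem (hCK c.2) (hBK k.2)

/-- **SPLIT LEMMA** -/
theorem split [Finite W] (b : Base H y) (hA : A ≤ H) (sq : ∀ a ∈ A, a * a = 1) (ex : WEx y A)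
    (no : ∀ B ≤ A, Nat.card B * Nat.card (cm y B) ≤ Nat.card W)
    (htv : ∀ B ≤ A, B ≠ ⊥ → WEx y B → ∃ g ∈ B, IsTv H y g) :
    A ≤ Subgroup.closure {g | g ∈ A ∧ IsTv H y g} := by
  obtain ⟨J, O⟩ := split_aux b _ A hA rfl sq ex no htv
  exact O.cl

/-- atoms of order 2 are enough -/
theorem exists_tv_of [Finite W] (y0 : y ≠ 0) (ex : MEx y A) (hne : A ≠ ⊥)
    (hat : ∀ B ≤ A, MAtom y B → Nat.card B = 2) (htv : ∀ g ∈ A, IsTm y g → IsTv H y g) : ∃ g ∈ A, IsTv H y g := by
  obtain ⟨B₁, hB₁, hB₁a⟩ := exists_atom hne ex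
  obtain ⟨g, hgB, hgt⟩ := isTm_of y0 hB₁a.ex (hat B₁ hB₁ hB₁a)
  exact ⟨g, hB₁ hgB, htv g (hB₁ hgB) hgt⟩

end

end Cfsg.Agent.Omega.FOne.NOv
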